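import Mathlib

/-!
Elementary arithmetic on the repunits `(Q^m - 1)/(Q - 1)`.
-/

set_option autoImplicit false

namespace Cfsg.Agent.Lib.BaerClass

open Finset

theorem geom_mul_pred (Q m : ℕ) (hQ : 1 ≤ Q) :
    (Q - 1) * (∑ i ∈ range m, Q ^ i) = Q ^ m - 1 := by
  induction m with
  | zero => simp
  | succ m ih =>
    rw [sum_range_succ, mul_add, ih, Nat.sub_mul, one_mul, ← pow_succ']
    have h1 : 1 ≤ Q ^ m := Nat.one_le_pow _ _ hQ
    have h2 : Q ^ m ≤ Q ^ (m + 1) := Nat.pow_le_pow_right hQ (Nat.le_succ m)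
    omega

theorem lt_geom (Q m : ℕ) (hQ : 2 ≤ Q) (hm : 2 ≤ m) : m < ∑ i ∈ range m, Q ^ i := by
  calc m = ∑ i ∈ range m, 1 := by simp
    _ < ∑ i ∈ range m, Q ^ i := by
      refine sum_lt_sum (fun i _ => Nat.one_le_pow _ _ (by omega)) ⟨1, mem_range.2 hm, ?_⟩
      rw [pow_one]; omega

/-- For odd `p`, `p`-power multiples of a repunit dividing `Q^m - 1` are the repunit itself. -/
theorem eq_geom_of_dvd {p Q m k : ℕ} (hp : p.Prime) (hp2 : p ≠ 2) (hQ : 2 ≤ Q) (hm : 2 ≤ m)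
    (hS : (∑ i ∈ range m, Q ^ i) ∣ p ^ k) (hd : p ^ k ∣ Q ^ m - 1) :
    p ^ k = ∑ i ∈ range m, Q ^ i := by
  haveI := Fact.mk hp
  set S := ∑ i ∈ range m, Q ^ i with hSdef
  obtain ⟨c, -, hc⟩ := (Nat.dvd_prime_pow hp).1 hS
  have hc1 : c ≠ 0 := by
    rintro rfl
    have := lt_geom Q m hQ hm
    rw [← hSdef, hc, pow_zero] at this
    omega
  have hnp : ¬ p ∣ Q - 1 := by
    intro hdvd
    have hQp : (Q : ZMod p) = 1 := by
      have := (ZMod.natCast_eq_zero_iff (Q - 1) p).2 hdvd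
      rwa [Nat.cast_sub (by omega : 1 ≤ Q), sub_eq_zero, Nat.cast_one] at this
    have hmp : p ∣ m := by
      rw [← ZMod.natCast_eq_zero_iff]
      have h0 : ((S : ℕ) : ZMod p) = 0 :=
        (ZMod.natCast_eq_zero_iff _ _).2 (hc ▸ dvd_pow_self p hc1)
      rw [hSdef, Nat.cast_sum] at h0
      simpa [hQp] using h0
    obtain ⟨l, rfl⟩ := hmp
    set S₁ := ∑ i ∈ range p, Q ^ i with hS₁
    have hS1S : S₁ ∣ S := by
      have h1 : Q ^ p - 1 ∣ Q ^ (p * l) - 1 := Nat.pow_sub_one_dvd_pow_sub_one Q (dvd_mul_right p l)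
      rw [← geom_mul_pred Q p (by omega), ← geom_mul_pred Q (p * l) (by omega)] at h1
      exact Nat.dvd_of_mul_dvd_mul_left (by omega) h1
    obtain ⟨c', -, hc'⟩ := (Nat.dvd_prime_pow hp).1 (hc ▸ hS1S)
    have hbig := lt_geom Q p hQ hp.two_le
    rw [← hS₁, hc'] at hbig
    have hc'2 : 2 ≤ c' := by
      by_contra h
      interval_cases c' <;> simp at hbig
      exact absurd hbig (by have := hp.two_le; omega)
    have hp2dvd : ((p ^ 2 : ℕ) : ℤ) ∣ (S₁ : ℤ) := by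
      exact_mod_cast hc' ▸ pow_dvd_pow p hc'2
    obtain ⟨t, ht⟩ : (p : ℤ) ∣ (Q : ℤ) - 1 := by
      have h := Int.natCast_dvd_natCast.2 hdvd
      rwa [Nat.cast_sub (by omega : 1 ≤ Q), Nat.cast_one] at h
    have key : ∀ i : ℕ, ((p : ℤ) ^ 2) ∣ (Q : ℤ) ^ i - (1 + i * (p * t)) := by
      intro i
      induction i with
      | zero => simp
      | succ i ih =>
        obtain ⟨u, hu⟩ := ih
        refine ⟨u * (1 + p * t) + i * t ^ 2, ?_⟩
        have hQe : (Q : ℤ) = 1 + p * t := by linarith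
        rw [hQe] at hu ⊢
        push_cast
        rw [pow_succ, show (1 + (p : ℤ) * t) ^ i = 1 + i * (p * t) + (p : ℤ) ^ 2 * u by linarith]
        ring
    have hsum : ((p : ℤ) ^ 2) ∣ ∑ i ∈ range p, ((Q : ℤ) ^ i - (1 + i * (p * t))) :=
      dvd_sum fun i _ => key i
    rw [sum_sub_distrib, sum_add_distrib, ← Finset.sum_mul] at hsum
    have hg : ((∑ i ∈ range p, (i : ℤ))) * (p * t) = (p : ℤ) ^ 2 * (((p - 1) / 2 : ℕ) * t) := by
      obtain ⟨h, hh⟩ := hp.odd_of_ne_two hp2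
      have h2 : (∑ i ∈ range p, i) * 2 = p * (p - 1) := sum_range_id_mul_two p
      have h3 : (∑ i ∈ range p, i) = p * h := by
        refine Nat.eq_of_mul_eq_mul_right (show 0 < 2 by norm_num) ?_
        rw [h2, mul_assoc, show p - 1 = h * 2 by omega]
      have h4 := congrArg (Nat.cast : ℕ → ℤ) h3
      push_cast at h4
      rw [h4, show (p - 1) / 2 = h by omega]
      ring
    rw [hg, show (∑ i ∈ range p, (Q : ℤ) ^ i) = (S₁ : ℤ) by simp [hS₁], show
      (∑ _i ∈ range p, (1 : ℤ)) = p by simp] at hsum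
    push_cast at hp2dvd
    have h5 : (p : ℤ) ^ 2 ∣ (p : ℤ) := by
      have h6 := dvd_sub hp2dvd hsum
      rw [sub_sub_cancel] at h6
      exact (dvd_add_left (dvd_mul_right _ _)).1 h6
    have h7 : p ^ 2 ∣ p := by exact_mod_cast h5
    have h8 := Nat.le_of_dvd hp.pos h7
    have := hp.two_le
    nlinarith
  have hcop : Nat.Coprime (p ^ k) (Q - 1) := ((hp.coprime_iff_not_dvd.2 hnp).pow_left k)
  rw [← geom_mul_pred Q m (by omega), ← hSdef] at hd
  exact Nat.dvd_antisymm (hcop.dvd_of_dvd_mul_left hd) hS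

/-- A number `2^n - 1` which is a prime power is a prime. -/
theorem prime_of_two_pow_sub_one {p n k : ℕ} (hp : p.Prime) (hn : 2 ≤ n) (hk : 1 ≤ k)
    (h : 2 ^ n - 1 = p ^ k) : k = 1 := by
  have h4 : 4 ∣ 2 ^ n := pow_dvd_pow 2 hn
  have hn1 : 1 ≤ 2 ^ n := Nat.one_le_two_pow
  have hp2 : p ≠ 2 := by
    rintro rfl
    have : 2 ∣ 2 ^ k := dvd_pow_self 2 (by omega)
    omega
  rcases Nat.even_or_odd k with ⟨j, rfl⟩ | hko
  · exfalso
    obtain ⟨s, hs⟩ := (hp.odd_of_ne_two hp2).pow (n := j)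
    rw [pow_add, hs] at h
    have : (2 * s + 1) * (2 * s + 1) = 4 * (s * s + s) + 1 := by ring
    omega
  have hsum : p ^ k + 1 = 2 ^ n := by omega
  have hdvd : p + 1 ∣ 2 ^ n := by
    rw [← hsum]
    simpa using hko.nat_add_dvd_pow_add_pow p 1
  obtain ⟨e, he, hpe⟩ := (Nat.dvd_prime_pow Nat.prime_two).1 hdvd
  by_contra hk1
  have he2 : 1 ≤ e := by
    rcases e with _ | e
    · simp at hpe; exact absurd hpe hp.ne_zero
    · omega
  have hlt : e < n := by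
    by_contra hle
    push Not at hle
    have h1 : 2 ^ n ≤ 2 ^ e := Nat.pow_le_pow_right two_pos hle
    have h2 : p * p ≤ p ^ k := by
      rw [← sq]; exact Nat.pow_le_pow_right hp.pos (by omega)
    have := hp.two_le
    nlinarith
  have key : ∀ i : ℕ, ∃ u : ℤ, ((2 : ℤ) ^ e - 1) ^ i = (-1) ^ i * (1 - i * 2 ^ e) + (2 ^ e) ^ 2 * u := by
    intro i
    induction i with
    | zero => exact ⟨0, by simp⟩
    | succ i ih =>
      obtain ⟨u, hu⟩ := ih
      refine ⟨u * (2 ^ e - 1) - (-1) ^ i * i, ?_⟩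
      rw [pow_succ, hu]
      push_cast
      ring
  obtain ⟨u, hu⟩ := key k
  have hpz : (p : ℤ) = 2 ^ e - 1 := by
    have := congrArg (Nat.cast : ℕ → ℤ) hpe
    push_cast at this
    linarith
  have hz : (2 : ℤ) ^ e * (k + 2 ^ e * u) = 2 ^ n := by
    have := congrArg (Nat.cast : ℕ → ℤ) hsum
    push_cast at this
    rw [hpz, hu, hko.neg_one_pow] at this
    linear_combination this
  have hz2 : (k : ℤ) + 2 ^ e * u = 2 ^ (n - e) := by
    refine mul_left_cancel₀ (pow_ne_zero e (two_ne_zero : (2 : ℤ) ≠ 0)) ?_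
    rw [hz, ← pow_add, show e + (n - e) = n by omega]
  obtain ⟨j, hj⟩ := hko
  have h2k : (2 : ℤ) ∣ (k : ℤ) := by
    have a1 : (2 : ℤ) ∣ 2 ^ (n - e) := dvd_pow_self 2 (by omega)
    have a2 : (2 : ℤ) ∣ 2 ^ e * u := (dvd_pow_self 2 (by omega)).mul_right u
    rw [← hz2] at a1
    exact (dvd_add_left a2).1 a1
  omega

end Cfsg.Agent.Lib.BaerClass
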