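import Mathlib

/-!
Additive maps of a finite field preserving a Frobenius-sum power are monomial.
-/

set_option autoImplicit false

namespace Cfsg.Agent.Lib.BaerClass

open Finset Polynomial

variable {F : Type*} [Field F] [Fintype F] {b n : ℕ}

/-- The exponent with digit vector `c`. -/
def digitVal (b : ℕ) {n : ℕ} (c : Fin n → ℕ) : ℕ := ∑ j : Fin n, c j * b ^ (j : ℕ)

theorem pow_base_mod (hF : Fintype.card F = b ^ n) (j : ℕ) (x : F) :
    x ^ b ^ j = x ^ b ^ (j % n) := by
  conv_lhs => rw [← Nat.mod_add_div j n, pow_add, pow_mul, pow_mul, ← hF,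
    FiniteField.pow_card_pow]

theorem digitVal_lt {v : Fin n → ℕ} (hv : ∀ j, v j < b) : digitVal b v < b ^ n := by
  have h := (finFunctionFinEquiv (fun j => (⟨v j, hv j⟩ : Fin b))).isLt
  rwa [finFunctionFinEquiv_apply] at h

theorem digitVal_inj {v w : Fin n → ℕ} (hv : ∀ j, v j < b) (hw : ∀ j, w j < b)
    (h : digitVal b v = digitVal b w) : v = w := by
  have : (fun j => (⟨v j, hv j⟩ : Fin b)) = fun j => (⟨w j, hw j⟩ : Fin b) := by
    refine finFunctionFinEquiv.injective (Fin.ext ?_)
    rw [finFunctionFinEquiv_apply, finFunctionFinEquiv_apply]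
    exact h
  funext j
  exact congrArg (fun f => ((f j : Fin b) : ℕ)) this

theorem pow_digitVal (c : Fin n → ℕ) (x : F) :
    x ^ digitVal b c = ∏ j : Fin n, (x ^ b ^ (j : ℕ)) ^ c j := by
  unfold digitVal
  rw [← Finset.prod_pow_eq_pow_sum]
  exact Finset.prod_congr rfl fun j _ => by rw [← pow_mul, mul_comm]

theorem exists_reduced (hb : 2 ≤ b) (hF : Fintype.card F = b ^ n) :
    ∀ (w : ℕ) (c : Fin n → ℕ), ∑ j, c j = w →
      ∃ v : Fin n → ℕ, (∀ j, v j < b) ∧ (∀ x : F, x ^ digitVal b c = x ^ digitVal b v) ∧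
        (v = c ∨ ∑ j, v j < w) := by
  intro w
  induction w using Nat.strong_induction_on with
  | _ w ih =>
    intro c hc
    by_cases hall : ∀ j, c j < b
    · exact ⟨c, hall, fun x => rfl, Or.inl rfl⟩
    push Not at hall
    obtain ⟨j, hj⟩ := hall
    have hn : 0 < n := Fin.pos j
    let nx : Fin n := ⟨((j : ℕ) + 1) % n, Nat.mod_lt _ hn⟩
    let c₀ : Fin n → ℕ := Function.update c j (c j - b)
    let c' : Fin n → ℕ := fun l => c₀ l + if l = nx then 1 else 0
    have hc₀ : ∀ l, c l = c₀ l + if l = j then b else 0 := by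
      intro l
      rcases eq_or_ne l j with rfl | hl
      · simp only [c₀, Function.update_self, if_true]; omega
      · simp [c₀, hl]
    have hs0 : ∑ l, c l = ∑ l, c₀ l + b := by
      rw [Finset.sum_congr rfl fun l _ => hc₀ l, Finset.sum_add_distrib, Finset.sum_ite_eq']
      simp
    have hs1 : ∑ l, c' l = ∑ l, c₀ l + 1 := by
      simp only [c', Finset.sum_add_distrib, Finset.sum_ite_eq', Finset.mem_univ, if_true]
    have hlt : ∑ l, c' l < w := by omega
    obtain ⟨v, hv, hvx, hvw⟩ := ih _ hlt c' rfl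
    refine ⟨v, hv, fun x => ?_, Or.inr ?_⟩
    · rw [← hvx x]
      have e1 : digitVal b c = digitVal b c₀ + b ^ ((j : ℕ) + 1) := by
        unfold digitVal
        rw [Finset.sum_congr rfl fun l _ => by rw [hc₀ l, add_mul], Finset.sum_add_distrib]
        simp only [ite_mul, zero_mul, Finset.sum_ite_eq', Finset.mem_univ, if_true]
        rw [pow_succ']
      have e2 : digitVal b c' = digitVal b c₀ + b ^ (nx : ℕ) := by
        unfold digitVal
        simp only [c', add_mul, Finset.sum_add_distrib, ite_mul, zero_mul, one_mul,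
          Finset.sum_ite_eq', Finset.mem_univ, if_true]
      rw [e1, e2, pow_add x, pow_add x, pow_base_mod hF ((j : ℕ) + 1) x]
    · rcases hvw with rfl | h <;> omega

/-- The number of times a tuple takes each value. -/
def tupleCount {k : ℕ} {n : ℕ} (t : Fin k → Fin n) : Fin n → ℕ :=
  fun j => (univ.filter fun s => t s = j).card

theorem sum_tupleCount {k : ℕ} (t : Fin k → Fin n) : ∑ j, tupleCount t j = k := by
  have h := Finset.card_eq_sum_card_fiberwise (s := (univ : Finset (Fin k))) (t := univ) (f := t)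
    fun s _ => Finset.mem_univ _
  simpa [tupleCount] using h.symm

theorem prod_pow_tupleCount {k : ℕ} (t : Fin k → Fin n) (x : F) :
    ∏ s, x ^ b ^ (t s : ℕ) = x ^ digitVal b (tupleCount t) := by
  rw [pow_digitVal, ← Finset.prod_fiberwise univ t]
  refine Finset.prod_congr rfl fun j _ => ?_
  rw [tupleCount]
  exact Finset.prod_eq_pow_card fun s hs => by rw [(Finset.mem_filter.1 hs).2]

/-- Comparison of the top digit coefficient. -/
theorem top_coeff_eq_zero (hb : 2 ≤ b) (hF : Fintype.card F = b ^ n) (c₀ : Fin n → ℕ) {r k : ℕ}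
    (a : Fin n → F) (A : Fin k → Fin n → F) (hk : k < ∑ j, c₀ j + r)
    (heq : ∀ x : F, x ^ digitVal b c₀ * (∑ j, a j * x ^ b ^ (j : ℕ)) ^ r =
      ∏ s, ∑ j, A s j * x ^ b ^ (j : ℕ))
    (v : Fin n → ℕ) (hv : ∀ j, v j < b) (hw : ∑ j, v j = ∑ j, c₀ j + r) :
    ∑ t ∈ univ.filter (fun t : Fin r → Fin n => c₀ + tupleCount t = v), ∏ s, a (t s) = 0 := by
  classical
  have hr : ∀ c : Fin n → ℕ, ∃ v : Fin n → ℕ, (∀ j, v j < b) ∧
      (∀ x : F, x ^ digitVal b c = x ^ digitVal b v) ∧ (v = c ∨ ∑ j, v j < ∑ j, c j) :=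
    fun c => exists_reduced hb hF _ c rfl
  choose red hred hredx hredw using hr
  let P : F[X] :=
    ∑ t : Fin r → Fin n, C (∏ s, a (t s)) * X ^ digitVal b (red (c₀ + tupleCount t)) -
      ∑ t : Fin k → Fin n, C (∏ s, A s (t s)) * X ^ digitVal b (red (tupleCount t))
  have hdeg : P.degree < (b ^ n : ℕ) := by
    refine lt_of_le_of_lt (Polynomial.degree_sub_le _ _) (max_lt ?_ ?_) <;>
      refine lt_of_le_of_lt (Polynomial.degree_sum_le _ _) ((Finset.sup_lt_iff (WithBot.bot_lt_coe _)).2 ?_) <;>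
      intro t _ <;>
      refine lt_of_le_of_lt (degree_C_mul_X_pow_le _ _) (WithBot.coe_lt_coe.2 (digitVal_lt (hred _)))
  have hzero : ∀ x : F, P.eval x = 0 := by
    intro x
    simp only [P, eval_sub, eval_finsetSum, eval_mul, eval_C, eval_pow, eval_X, ← hredx]
    have h1 : ∀ (m : ℕ) (B : Fin m → Fin n → F),
        ∏ s, ∑ j, B s j * x ^ b ^ (j : ℕ) =
          ∑ t : Fin m → Fin n, (∏ s, B s (t s)) * x ^ digitVal b (tupleCount t) := by
      intro m B
      rw [Fintype.prod_sum]
      exact Finset.sum_congr rfl fun t _ => by rw [Finset.prod_mul_distrib, prod_pow_tupleCount]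
    have h2 := h1 r fun _ => a
    rw [Finset.prod_const, Finset.card_univ, Fintype.card_fin] at h2
    rw [← h1 k A, ← heq x, h2, Finset.mul_sum, sub_eq_zero]
    refine Finset.sum_congr rfl fun t _ => ?_
    rw [show digitVal b (c₀ + tupleCount t) = digitVal b c₀ + digitVal b (tupleCount t) by
      simp [digitVal, add_mul, Finset.sum_add_distrib], pow_add]
    ring
  have hP0 : P = 0 := by
    refine Polynomial.eq_zero_of_degree_lt_of_eval_finset_eq_zero (univ : Finset F) ?_ fun x _ => hzero x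
    rw [Finset.card_univ, hF]; exact hdeg
  have hc := congrArg (fun Q : F[X] => Q.coeff (digitVal b v)) hP0
  simp only [P, coeff_sub, Polynomial.finsetSum_coeff, coeff_C_mul_X_pow, Polynomial.coeff_zero] at hc
  have h2 : ∀ t : Fin k → Fin n, digitVal b v ≠ digitVal b (red (tupleCount t)) := by
    intro t h
    have e := digitVal_inj hv (hred _) h
    have hs := sum_tupleCount t
    rcases hredw (tupleCount t) with h' | h'
    · rw [h'] at e; rw [e] at hw; omega
    · rw [← e] at h'; omega
  rw [Finset.sum_eq_zero (s := (univ : Finset (Fin k → Fin n))) fun t _ => if_neg (h2 t), sub_zero] at hc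
  rw [Finset.sum_filter]
  refine (Finset.sum_congr rfl fun t _ => if_congr ?_ rfl rfl).trans hc
  have hs : ∑ j, (c₀ + tupleCount t) j = ∑ j, v j := by
    rw [hw, show ∑ j, (c₀ + tupleCount t) j = ∑ j, c₀ j + ∑ j, tupleCount t j by
      simp [Finset.sum_add_distrib], sum_tupleCount]
  constructor
  · intro h
    rcases hredw (c₀ + tupleCount t) with h' | h'
    · rw [h', h]
    · exfalso
      -- a tuple without carries is its own reduction
      have hlt : ∀ j, (c₀ + tupleCount t) j < b := fun j => by rw [h]; exact hv j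
      obtain ⟨hx⟩ : Nonempty (digitVal b (red (c₀ + tupleCount t)) < b ^ n) :=
        ⟨digitVal_lt (hred _)⟩
      have heqv : red (c₀ + tupleCount t) = c₀ + tupleCount t := by
        refine digitVal_inj (hred _) hlt ?_
        by_contra hne
        let Q : F[X] := X ^ digitVal b (red (c₀ + tupleCount t)) - X ^ digitVal b (c₀ + tupleCount t)
        have hQ : Q = 0 := by
          refine Polynomial.eq_zero_of_degree_lt_of_eval_finset_eq_zero (univ : Finset F) ?_
            fun x _ => by simp [Q, ← hredx]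
          rw [Finset.card_univ, hF]
          refine lt_of_le_of_lt (Polynomial.degree_sub_le _ _) (max_lt ?_ ?_) <;>
            rw [degree_X_pow] <;> exact WithBot.coe_lt_coe.2 (by first
              | exact digitVal_lt (hred _)
              | exact digitVal_lt hlt)
        have := congrArg (fun Q : F[X] => Q.coeff (digitVal b (c₀ + tupleCount t))) hQ
        simp [Q, coeff_X_pow, Ne.symm hne] at this
      rw [heqv] at h'
      omega
  · intro h
    have e := digitVal_inj hv (hred _) h
    rcases hredw (c₀ + tupleCount t) with h' | h'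
    · rw [← h', ← e]
    · rw [← e] at h'; omega

variable {q : ℕ} [Fact q.Prime] [CharP F q]

theorem add_pow_base {e : ℕ} (hb' : b = q ^ e) (l : ℕ) {ι : Type*} (s : Finset ι) (g : ι → F) :
    (∑ i ∈ s, g i) ^ b ^ l = ∑ i ∈ s, g i ^ b ^ l := by
  subst hb'
  rw [← pow_mul]
  exact sum_pow_char_pow q _ s g

/-- The consequence of `f x ^ d = x ^ d` used twice below. -/
theorem monomial_coeff (hb : 2 ≤ b) {e : ℕ} (hb' : b = q ^ e) (hF : Fintype.card F = b ^ n)
    (T : Finset (Fin n)) (i₀ : Fin n) (hi₀ : (i₀ : ℕ) = 0) (hi₀T : i₀ ∈ T) (a : Fin n → F)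
    (hf : ∀ x : F, (∑ j, a j * x ^ b ^ (j : ℕ)) ^ (∑ j ∈ T, b ^ (j : ℕ)) =
      x ^ (∑ j ∈ T, b ^ (j : ℕ)))
    (v : Fin n → ℕ) (hv : ∀ j, v j < b) (hw : ∑ j, v j = T.card + (b - 1)) :
    ∑ t ∈ univ.filter (fun t : Fin (b - 1) → Fin n =>
      (fun j => if j ∈ T then 1 else 0) + tupleCount t = v), ∏ s, a (t s) = 0 := by
  classical
  have hn : 0 < n := Fin.pos i₀
  haveI : NeZero n := ⟨hn.ne'⟩
  set c₀ : Fin n → ℕ := fun j => if j ∈ T then 1 else 0 with hc₀
  have hsum : ∑ j, c₀ j = T.card := by simp [hc₀]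
  have hval : digitVal b c₀ = ∑ j ∈ T, b ^ (j : ℕ) := by
    simp [digitVal, hc₀, ite_mul, Finset.sum_ite_mem]
  let l : Fin n → ℕ := fun j => if j = i₀ then 1 else (j : ℕ)
  let eT := T.equivFin.symm
  let A : Fin T.card → Fin n → F := fun s j =>
    a ((Equiv.addRight (⟨l (eT s : Fin n) % n, Nat.mod_lt _ hn⟩ : Fin n)).symm j) ^
      b ^ l (eT s : Fin n)
  refine top_coeff_eq_zero hb hF c₀ a A (by omega) ?_ v hv (by omega)
  intro x
  set f := ∑ j, a j * x ^ b ^ (j : ℕ) with hfdef
  have hA : ∀ s, ∑ j, A s j * x ^ b ^ (j : ℕ) = f ^ b ^ l (eT s : Fin n) := by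
    intro s
    set L := l (eT s : Fin n)
    rw [hfdef, add_pow_base (q := q) hb' L]
    refine (Fintype.sum_equiv (Equiv.addRight (⟨L % n, Nat.mod_lt _ hn⟩ : Fin n)) _ _ fun j => ?_).symm
    simp only [A]
    rw [Equiv.symm_apply_apply, mul_pow, ← pow_mul, ← pow_add]
    congr 1
    rw [pow_base_mod hF ((j : ℕ) + L) x]
    congr 2
    simp [Fin.val_add]
  rw [Finset.prod_congr rfl fun s _ => hA s, hval, ← hf x, ← hfdef, Finset.prod_pow_eq_pow_sum,
    ← pow_add]
  congr 1
  rw [Equiv.sum_comp eT (fun j : T => b ^ l (j : Fin n)), Finset.sum_coe_sort T fun j => b ^ l j,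
    ← Finset.add_sum_erase T _ hi₀T, ← Finset.add_sum_erase T (fun j => b ^ l j) hi₀T]
  have : ∑ j ∈ T.erase i₀, b ^ l j = ∑ j ∈ T.erase i₀, b ^ (j : ℕ) :=
    Finset.sum_congr rfl fun j hj => by simp [l, (Finset.mem_erase.1 hj).1]
  rw [this, hi₀]
  simp only [l, if_true, pow_one, pow_zero]
  omega

theorem coeff_eq_zero_of_two (hb2 : b = 2) {e : ℕ} (hb' : b = q ^ e) (hF : Fintype.card F = b ^ n)
    (T : Finset (Fin n)) (i₀ : Fin n) (hi₀ : (i₀ : ℕ) = 0) (hi₀T : i₀ ∈ T) (a : Fin n → F)
    (hf : ∀ x : F, (∑ j, a j * x ^ b ^ (j : ℕ)) ^ (∑ j ∈ T, b ^ (j : ℕ)) =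
      x ^ (∑ j ∈ T, b ^ (j : ℕ)))
    {i : Fin n} (hi : i ∉ T) : a i = 0 := by
  classical
  subst hb2
  have h := monomial_coeff le_rfl hb' hF T i₀ hi₀ hi₀T a hf
    (fun j => (if j ∈ T then 1 else 0) + if j = i then 1 else 0)
    (fun j => by
      rcases eq_or_ne j i with hj | hj
      · rw [hj, if_neg hi, if_pos rfl]; exact Nat.lt_succ_self 1
      · rw [if_neg hj]; split <;> simp)
    (by simp [Finset.sum_add_distrib])
  rw [Finset.sum_eq_single (fun _ => i)] at h
  · simpa using h
  · intro t ht htne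
    refine absurd (_root_.funext fun s => ?_) htne
    have e := congrFun (Finset.mem_filter.1 ht).2 i
    simp only [Pi.add_apply, if_neg hi, zero_add, if_true, tupleCount] at e
    obtain ⟨s', hs'⟩ := Finset.card_pos.1 (e ▸ Nat.one_pos)
    rw [show s = s' from Subsingleton.elim (α := Fin 1) _ _]
    exact (Finset.mem_filter.1 hs').2
  · intro hnot
    exfalso
    apply hnot
    rw [Finset.mem_filter]
    refine ⟨Finset.mem_univ _, _root_.funext fun j => ?_⟩
    simp only [Pi.add_apply, tupleCount]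
    rcases eq_or_ne j i with rfl | hj
    · simp [hi]
    · simp [hj, Ne.symm hj]

theorem coeff_mul_eq_zero (hb : 3 ≤ b) {e : ℕ} (hb' : b = q ^ e) (hF : Fintype.card F = b ^ n)
    (T : Finset (Fin n)) (i₀ : Fin n) (hi₀ : (i₀ : ℕ) = 0) (hi₀T : i₀ ∈ T) (a : Fin n → F)
    (hf : ∀ x : F, (∑ j, a j * x ^ b ^ (j : ℕ)) ^ (∑ j ∈ T, b ^ (j : ℕ)) =
      x ^ (∑ j ∈ T, b ^ (j : ℕ)))
    {i k : Fin n} (hik : i ≠ k) : a i = 0 ∨ a k = 0 := by
  classical
  set v : Fin n → ℕ := fun j => (if j ∈ T then 1 else 0) +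
    ((if j = i then 1 else 0) + if j = k then b - 2 else 0) with hv
  have h := monomial_coeff (by omega) hb' hF T i₀ hi₀ hi₀T a hf v
    (fun j => by
      simp only [hv]
      split_ifs with h1 h2 h3 <;> first | omega | exact absurd ((‹j = i›).symm.trans ‹j = k›) hik)
    (by simp [hv, Finset.sum_add_distrib]; omega)
  set τ : Fin (b - 1) → Fin (b - 1) → Fin n := fun s => Function.update (fun _ => k) s i with hτ
  have hτinj : Function.Injective τ := by
    intro s s' hss
    by_contra hne
    have := congrFun hss s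
    simp [hτ, hne] at this
    exact hik this
  have himg : univ.filter (fun t : Fin (b - 1) → Fin n =>
      (fun j => if j ∈ T then 1 else 0) + tupleCount t = v) = univ.image τ := by
    ext t
    simp only [Finset.mem_filter, Finset.mem_univ, true_and, Finset.mem_image]
    constructor
    · intro ht
      have hcnt : ∀ j, tupleCount t j = (if j = i then 1 else 0) + if j = k then b - 2 else 0 := by
        intro j
        have := congrFun ht j
        simp only [hv, Pi.add_apply] at this
        omega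
      have h1 := hcnt i
      simp only [if_true, if_neg hik, add_zero, tupleCount] at h1
      obtain ⟨s, hs⟩ := Finset.card_eq_one.1 h1
      refine ⟨s, _root_.funext fun s' => ?_⟩
      rcases eq_or_ne s' s with rfl | hne
      · have : s' ∈ univ.filter fun u => t u = i := by rw [hs]; exact Finset.mem_singleton_self _
        rw [(Finset.mem_filter.1 this).2]; simp [hτ]
      · simp only [hτ, Function.update_of_ne hne]
        have hti : t s' ≠ i := fun he => hne (Finset.mem_singleton.1
          (hs ▸ Finset.mem_filter.2 ⟨Finset.mem_univ _, he⟩))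
        by_contra htk
        have h0 := hcnt (t s')
        rw [if_neg hti, if_neg (Ne.symm htk), add_zero] at h0
        unfold tupleCount at h0
        rw [Finset.card_eq_zero] at h0
        exact Finset.notMem_empty s' (h0 ▸ Finset.mem_filter.2 ⟨Finset.mem_univ s', rfl⟩)
    · rintro ⟨s, rfl⟩
      funext j
      simp only [hv, Pi.add_apply]
      congr 1
      unfold tupleCount
      rcases eq_or_ne j i with rfl | hji
      · rw [if_pos rfl, if_neg hik, add_zero, Finset.card_eq_one]
        refine ⟨s, ?_⟩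
        ext u
        rcases eq_or_ne u s with rfl | hu <;> simp [hτ, *, hik.symm]
      · rw [if_neg hji, zero_add]
        rcases eq_or_ne j k with rfl | hjk
        · rw [if_pos rfl]
          have : univ.filter (fun u => τ s u = j) = univ.erase s := by
            ext u
            rcases eq_or_ne u s with rfl | hu <;> simp [hτ, *]
          rw [this, Finset.card_erase_of_mem (Finset.mem_univ _), Finset.card_univ, Fintype.card_fin]
          omega
        · rw [if_neg hjk, Finset.card_eq_zero]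
          ext u
          rcases eq_or_ne u s with rfl | hu <;> simp [hτ, *, Ne.symm hji, Ne.symm hjk]
  rw [himg, Finset.sum_image fun _ _ _ _ h' => hτinj h'] at h
  have hprod : ∀ s : Fin (b - 1), ∏ u, a (τ s u) = a i * a k ^ (b - 2) := by
    intro s
    rw [← Finset.mul_prod_erase _ _ (Finset.mem_univ s),
      Finset.prod_congr rfl fun u hu => by
        rw [show τ s u = k by simp [hτ, (Finset.mem_erase.1 hu).1]],
      Finset.prod_const, Finset.card_erase_of_mem (Finset.mem_univ _), Finset.card_univ,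
      Fintype.card_fin, show b - 1 - 1 = b - 2 by omega]
    simp [hτ]
  rw [Finset.sum_congr rfl fun s _ => hprod s, Finset.sum_const, Finset.card_univ, Fintype.card_fin,
    nsmul_eq_mul] at h
  have hb0 : (b : F) = 0 := by
    refine (pow_eq_zero_iff (n := n) (Fin.pos i).ne').1 ?_
    rw [← Nat.cast_pow, ← hF]
    exact Nat.cast_card_eq_zero F
  rw [Nat.cast_sub (by omega : 1 ≤ b), hb0] at h
  simp only [zero_sub, Nat.cast_one, neg_mul, one_mul, neg_eq_zero, mul_eq_zero] at h
  exact h.imp id fun h' => (pow_eq_zero_iff (by omega)).1 h'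

/-- Every additive map of `F` is a linearised polynomial. -/
theorem exists_linearized (hF : Fintype.card F = q ^ n) (f : F →+ F) :
    ∃ a : Fin n → F, ∀ x, f x = ∑ j : Fin n, a j * x ^ q ^ (j : ℕ) := by
  classical
  letI : Algebra (ZMod q) F := ZMod.algebra F q
  have hq : q.Prime := Fact.out
  let Φ : (Fin n → F) → (F →ₗ[ZMod q] F) := fun a => AddMonoidHom.toZModLinearMap q
    { toFun := fun x => ∑ j : Fin n, a j * x ^ q ^ (j : ℕ)
      map_zero' := by simp [hq.ne_zero]
      map_add' := fun x y => by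
        rw [← Finset.sum_add_distrib]
        exact Finset.sum_congr rfl fun j _ => by rw [add_pow_char_pow, mul_add] }
  have hinj : Function.Injective Φ := by
    intro a a' h
    funext i
    have hx : ∀ x : F, ∑ j : Fin n, (a j - a' j) * x ^ q ^ (j : ℕ) = 0 := by
      intro x
      have := LinearMap.congr_fun h x
      simp only [Φ, AddMonoidHom.coe_toZModLinearMap, AddMonoidHom.coe_mk, ZeroHom.coe_mk] at this
      simp only [sub_mul, Finset.sum_sub_distrib, this, sub_self]
    have hP : (∑ j : Fin n, C (a j - a' j) * X ^ q ^ (j : ℕ) : F[X]) = 0 := by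
      refine Polynomial.eq_zero_of_degree_lt_of_eval_finset_eq_zero (univ : Finset F) ?_
        fun x _ => by simpa [eval_finsetSum] using hx x
      rw [Finset.card_univ, hF]
      refine lt_of_le_of_lt (Polynomial.degree_sum_le _ _)
        ((Finset.sup_lt_iff (WithBot.bot_lt_coe _)).2 fun j _ => ?_)
      exact lt_of_le_of_lt (degree_C_mul_X_pow_le _ _)
        (WithBot.coe_lt_coe.2 (Nat.pow_lt_pow_right hq.one_lt j.isLt))
    have hc := congrArg (fun P : F[X] => P.coeff (q ^ (i : ℕ))) hP
    simp only [Polynomial.finsetSum_coeff, coeff_C_mul_X_pow, Polynomial.coeff_zero] at hc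
    rw [Finset.sum_eq_single i] at hc
    · simpa [sub_eq_zero] using hc
    · intro j _ hj
      rw [if_neg]
      exact fun he => hj (Fin.ext (Nat.pow_right_injective hq.two_le he).symm)
    · simp
  have hfr : Module.finrank (ZMod q) F = n := by
    have h := Module.natCard_eq_pow_finrank (K := ZMod q) (V := F)
    rw [Nat.card_eq_fintype_card, hF, Nat.card_zmod] at h
    exact (Nat.pow_right_injective hq.two_le h).symm
  haveI : Finite (F →ₗ[ZMod q] F) := Finite.of_injective _ DFunLike.coe_injective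
  have hcard : Nat.card (F →ₗ[ZMod q] F) ≤ Nat.card (Fin n → F) := by
    rw [Module.natCard_eq_pow_finrank (K := ZMod q) (V := F →ₗ[ZMod q] F),
      Module.finrank_linearMap, hfr, Nat.card_zmod, Nat.card_fun, Nat.card_eq_fintype_card, hF,
      Nat.card_fin, ← pow_mul]
  obtain ⟨a, ha⟩ := (hinj.bijective_of_nat_card_le hcard).2 (AddMonoidHom.toZModLinearMap q f)
  refine ⟨a, fun x => ?_⟩
  have := LinearMap.congr_fun ha x
  simpa [Φ] using this.symm

theorem sum_multiples {g m : ℕ} (hg : 0 < g) (hn : n = g * m) {M : Type*} [AddCommMonoid M]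
    (φ : ℕ → M) :
    ∑ j ∈ (univ : Finset (Fin n)).filter (fun j : Fin n => g ∣ (j : ℕ)), φ (j : ℕ) =
      ∑ k : Fin m, φ (g * k) := by
  classical
  refine (Finset.sum_bij (fun (k : Fin m) _ => (⟨g * k, hn ▸ Nat.mul_lt_mul_of_pos_left k.isLt hg⟩ : Fin n))
    (fun k _ => Finset.mem_filter.2 ⟨Finset.mem_univ _, dvd_mul_right _ _⟩)
    (fun k _ k' _ h => Fin.ext (Nat.eq_of_mul_eq_mul_left hg (congrArg Fin.val h)))
    (fun j hj => ?_) fun k _ => rfl).symm
  obtain ⟨l, hl⟩ := (Finset.mem_filter.1 hj).2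
  have : l < m := Nat.lt_of_mul_lt_mul_left (a := g) (by rw [← hl, ← hn]; exact j.isLt)
  exact ⟨⟨l, this⟩, Finset.mem_univ _, Fin.ext hl.symm⟩

/-- The exported theorem: outside the transitive case the map is a monomial. -/
theorem exists_monomial {g m : ℕ} (hg : 0 < g) (hm : 0 < m) (hex : ¬ (q = 2 ∧ g = 1))
    (hF : Fintype.card F = q ^ (g * m)) (f : F →+ F) (hf0 : f 1 ≠ 0)
    (hf : ∀ x, f x ^ (∑ k ∈ Finset.range m, q ^ (g * k)) = x ^ (∑ k ∈ Finset.range m, q ^ (g * k))) :
    ∃ (c : F) (j : ℕ), ∀ x, f x = c * x ^ q ^ j := by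
  classical
  have hq : q.Prime := Fact.out
  obtain ⟨a, ha⟩ := exists_linearized (n := g * m) hF f
  set T := (univ : Finset (Fin (g * m))).filter (fun j : Fin (g * m) => g ∣ (j : ℕ)) with hT
  let i₀ : Fin (g * m) := ⟨0, Nat.mul_pos hg hm⟩
  have hi₀T : i₀ ∈ T := Finset.mem_filter.2 ⟨Finset.mem_univ _, dvd_zero _⟩
  have hTsum : ∑ j ∈ T, q ^ (j : ℕ) = ∑ k ∈ Finset.range m, q ^ (g * k) := by
    rw [hT, sum_multiples hg rfl (fun i => q ^ i), Fin.sum_univ_eq_sum_range fun k => q ^ (g * k)]
  have hf' : ∀ x : F, (∑ j, a j * x ^ q ^ (j : ℕ)) ^ (∑ j ∈ T, q ^ (j : ℕ)) =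
      x ^ (∑ j ∈ T, q ^ (j : ℕ)) := fun x => by rw [← ha, hTsum, hf]
  have finish : ∀ {N : ℕ} (c : Fin N → F) (e : Fin N → ℕ),
      (∀ i k, i ≠ k → c i = 0 ∨ c k = 0) → (∀ x, f x = ∑ i, c i * x ^ q ^ e i) →
      ∃ (c : F) (j : ℕ), ∀ x, f x = c * x ^ q ^ j := by
    intro N c e hc hfc
    obtain ⟨i, hi⟩ : ∃ i, c i ≠ 0 := by
      by_contra h
      push Not at h
      exact hf0 (by rw [hfc]; simp [h])
    refine ⟨c i, e i, fun x => ?_⟩
    rw [hfc, Finset.sum_eq_single i]
    · intro k _ hk
      rw [(hc k i hk).resolve_right hi, zero_mul]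
    · simp
  by_cases h2 : q = 2
  · have hg1 : g ≠ 1 := fun h => hex ⟨h2, h⟩
    have ha0 : ∀ j : Fin (g * m), j ∉ T → a j = 0 := fun j hj =>
      coeff_eq_zero_of_two (e := 1) h2 (pow_one q).symm hF T i₀ rfl hi₀T a hf' hj
    let a' : Fin m → F := fun k => a ⟨g * k, Nat.mul_lt_mul_of_pos_left k.isLt hg⟩
    have ha' : ∀ x, f x = ∑ k : Fin m, a' k * x ^ (q ^ g) ^ (k : ℕ) := by
      intro x
      rw [ha, ← Finset.sum_filter_add_sum_filter_not univ (fun j : Fin (g * m) => g ∣ (j : ℕ)),
        Finset.sum_eq_zero (s := univ.filter fun j : Fin (g * m) => ¬ g ∣ (j : ℕ)), add_zero]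
      · refine (Finset.sum_bij (fun (k : Fin m) _ =>
          (⟨g * k, Nat.mul_lt_mul_of_pos_left k.isLt hg⟩ : Fin (g * m)))
          (fun k _ => Finset.mem_filter.2 ⟨Finset.mem_univ _, dvd_mul_right _ _⟩)
          (fun k _ k' _ h => Fin.ext (Nat.eq_of_mul_eq_mul_left hg (congrArg Fin.val h)))
          (fun j hj => ?_) fun k _ => by simp [a', ← pow_mul]).symm
        obtain ⟨l, hl⟩ := (Finset.mem_filter.1 hj).2
        have : l < m := Nat.lt_of_mul_lt_mul_left (a := g) (by rw [← hl]; exact j.isLt)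
        exact ⟨⟨l, this⟩, Finset.mem_univ _, Fin.ext hl.symm⟩
      · intro j hj
        rw [ha0 j (fun h => (Finset.mem_filter.1 hj).2 (Finset.mem_filter.1 h).2), zero_mul]
    refine finish a' (fun k => g * k) (fun i k hik => ?_) fun x => by
      rw [ha' x]; exact Finset.sum_congr rfl fun k _ => by rw [← pow_mul]
    refine coeff_mul_eq_zero (e := g) ?_ rfl (by rw [hF, pow_mul]) univ (⟨0, hm⟩ : Fin m) rfl
      (Finset.mem_univ _) a' (fun x => ?_) hik
    · have : 2 ^ 2 ≤ q ^ g := by
        rw [h2]; exact Nat.pow_le_pow_right two_pos (by omega)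
      omega
    · rw [← ha' x, Fin.sum_univ_eq_sum_range fun k => (q ^ g) ^ k]
      simp only [← pow_mul]
      exact hf x
  · refine finish a (fun j => (j : ℕ)) (fun i k hik => ?_) ha
    exact coeff_mul_eq_zero (e := 1) (by have := hq.two_le; omega) (pow_one q).symm hF T i₀ rfl
      hi₀T a hf' hik

end Cfsg.Agent.Lib.BaerClass
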