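import Mathlib
import Cfsg.Agent.Lib.Perm.PrimeDegree

/-!
A perfect group of linear maps having the orbits of one of its Sylow subgroups `P`: idempotents in
the subring generated by a commutative subset of `P`.
-/

set_option autoImplicit false

namespace Cfsg.Agent.Lib.BaerClass

open Subgroup

theorem eq_one_of_solvable_range {H K : Type*} [Group H] [Group K] [Finite K]
    (hperf : commutator H = ⊤) (f : H →* K) (hs : Group.IsSolvable f.range) (h : H) : f h = 1 := by
  have hL : commutator ↥f.range = ⊤ := by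
    rw [commutator_def, ← Subgroup.map_top_of_surjective f.rangeRestrict f.rangeRestrict_surjective,
      ← Subgroup.map_commutator, ← commutator_def, hperf]
  rcases subsingleton_or_nontrivial ↥f.range with hS | hN
  · exact congrArg Subtype.val (Subsingleton.elim (⟨f h, h, rfl⟩ : f.range) 1)
  · exact absurd hL (Group.IsSolvable.commutator_lt_top_of_nontrivial ↥f.range).ne

/-- The data of the main case. -/
structure OrbitCase (p q : ℕ) (H : Type*) (W : Type*) [Group H] [AddCommGroup W] where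
  ρ : H →* AddMonoid.End W
  inj : Function.Injective ρ
  exp : ∀ w : W, q • w = 0
  ndvd : ¬ q ∣ Nat.card H
  perf : commutator H = ⊤
  P : Sylow p H
  orb : ∀ (h : H) (v : W), ∃ b : ↥(P : Subgroup H), ρ (b : H) v = ρ h v
  irr : ∀ U : AddSubgroup W, (∀ (b : ↥(P : Subgroup H)), ∀ u ∈ U, ρ (b : H) u ∈ U) → U = ⊥ ∨ U = ⊤

namespace OrbitCase

variable {p q : ℕ} {H W : Type*} [Group H] [AddCommGroup W] (D : OrbitCase p q H W)

theorem rho_mul (a b : H) (w : W) : D.ρ (a * b) w = D.ρ a (D.ρ b w) := by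
  rw [map_mul]; rfl

theorem rho_inv_mul (a : H) : D.ρ a⁻¹ * D.ρ a = 1 := by rw [← map_mul, inv_mul_cancel, map_one]

theorem rho_mul_inv (a : H) : D.ρ a * D.ρ a⁻¹ = 1 := by rw [← map_mul, mul_inv_cancel, map_one]

/-- Conjugation by `ρ a`. -/
def conjEndo (a : H) : AddMonoid.End W →+* AddMonoid.End W where
  toFun x := D.ρ a * x * D.ρ a⁻¹
  map_one' := by rw [mul_one, rho_mul_inv]
  map_mul' x y := by
    rw [← mul_assoc (D.ρ a * x * D.ρ a⁻¹), ← mul_assoc (D.ρ a * x * D.ρ a⁻¹),
      mul_assoc (D.ρ a * x) (D.ρ a⁻¹) (D.ρ a), rho_inv_mul, mul_one, mul_assoc (D.ρ a) x y]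
  map_zero' := by simp
  map_add' x y := by rw [mul_add, add_mul]

theorem conjEndo_apply (a : H) (x : AddMonoid.End W) :
    D.conjEndo a x = D.ρ a * x * D.ρ a⁻¹ := rfl

theorem conjEndo_rho (a b : H) : D.conjEndo a (D.ρ b) = D.ρ (a * b * a⁻¹) := by
  simp [conjEndo_apply, map_mul]

theorem conjEndo_mul (a b : H) (x : AddMonoid.End W) :
    D.conjEndo (a * b) x = D.conjEndo a (D.conjEndo b x) := by
  rw [conjEndo_apply, conjEndo_apply, conjEndo_apply, map_mul, mul_inv_rev, map_mul]
  simp only [mul_assoc]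

theorem commute_of_conjEndo_eq {a : H} {x : AddMonoid.End W} (h : D.conjEndo a x = x) :
    D.ρ a * x = x * D.ρ a := by
  conv_rhs => rw [← h, conjEndo_apply, mul_assoc, rho_inv_mul, mul_one]

theorem conjEndo_eq_self {a : H} {x : AddMonoid.End W} (h : D.ρ a * x = x * D.ρ a) :
    D.conjEndo a x = x := by
  rw [conjEndo_apply, h, mul_assoc, rho_mul_inv, mul_one]

theorem idem_trivial {e : AddMonoid.End W} (he : e * e = e)
    (hP : ∀ b : ↥(D.P : Subgroup H), D.conjEndo (b : H) e = e) : e = 0 ∨ e = 1 := by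
  have hinv : ∀ (b : ↥(D.P : Subgroup H)), ∀ u ∈ (AddMonoidHom.range e), D.ρ (b : H) u ∈ AddMonoidHom.range e := by
    rintro b _ ⟨w, rfl⟩
    exact ⟨D.ρ (b : H) w, (DFunLike.congr_fun (D.commute_of_conjEndo_eq (hP b)) w).symm⟩
  rcases D.irr _ hinv with h | h
  · left
    refine AddMonoidHom.ext fun w => ?_
    have : e w ∈ AddMonoidHom.range e := ⟨w, rfl⟩
    rw [h, AddSubgroup.mem_bot] at this
    exact this
  · right
    refine AddMonoidHom.ext fun w => ?_
    obtain ⟨u, rfl⟩ : w ∈ AddMonoidHom.range e := by rw [h]; trivial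
    exact DFunLike.congr_fun he u

variable [Finite H] [hp : Fact p.Prime]

theorem exists_pow_mul {P : Type*} [Group P] [Finite P] {N : Subgroup P} [N.Normal]
    (hN : N.index = p) {g : P} (hg : g ∉ N) :
    g ^ p ∈ N ∧ ∀ x : P, ∃ (i : ℕ) (n : P), n ∈ N ∧ x = g ^ i * n := by
  have hc : Nat.card (P ⧸ N) = p := hN
  have h1 : (g : P ⧸ N) ≠ 1 := fun h => hg ((QuotientGroup.eq_one_iff g).1 h)
  have hgen : ∀ y : P ⧸ N, y ∈ Submonoid.powers (g : P ⧸ N) := fun y =>
    mem_powers_of_prime_card hc h1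
  refine ⟨?_, fun x => ?_⟩
  · rw [← QuotientGroup.eq_one_iff, QuotientGroup.mk_pow, ← hc, pow_card_eq_one']
  · obtain ⟨i, hi⟩ := hgen (x : P ⧸ N)
    refine ⟨i, (g ^ i)⁻¹ * x, ?_, by group⟩
    exact QuotientGroup.eq.1 hi

/-- The atom of a decomposition cannot have only two possibilities under `P`. -/
theorem no_split {e : AddMonoid.End W} (he : e * e = e) (he0 : e ≠ 0) (he1 : e ≠ 1)
    (N : Subgroup ↥(D.P : Subgroup H)) [N.Normal] (hN : N.index = p ∨ N = ⊤)
    (hfix : ∀ n ∈ N, D.conjEndo ((n : ↥(D.P : Subgroup H)) : H) e = e)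
    (hatom : ∀ b : ↥(D.P : Subgroup H), D.conjEndo (b : H) e = e ∨
      e * D.conjEndo (b : H) e = 0) : False := by
  classical
  have htriv : (∀ b : ↥(D.P : Subgroup H), D.conjEndo (b : H) e = e) → False := fun h =>
    (D.idem_trivial he h).elim he0 he1
  rcases hN with hN | rfl
  swap
  · exact htriv fun b => hfix b trivial
  obtain ⟨g, hg⟩ : ∃ g, g ∉ N := by
    by_contra h
    push Not at h
    rw [(Subgroup.eq_top_iff' N).2 h, Subgroup.index_top] at hN
    exact hp.out.ne_one hN.symm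
  obtain ⟨hgp, hdec⟩ := exists_pow_mul hN hg
  -- conjugates of `e`
  let E : ℕ → AddMonoid.End W := fun i => D.conjEndo ((g ^ i : ↥(D.P : Subgroup H)) : H) e
  have hEadd : ∀ i j, E (i + j) = D.conjEndo ((g ^ i : ↥(D.P : Subgroup H)) : H) (E j) := by
    intro i j
    simp only [E]
    rw [← conjEndo_mul, ← Subgroup.coe_mul, ← pow_add]
  have hE0 : E 0 = e := by simp [E, conjEndo_apply]
  have hEp : E p = e := hfix _ hgp
  have hEmod : ∀ i, E i = E (i % p) := by
    have hmul : ∀ k, E (p * k) = e := by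
      intro k
      induction k with
      | zero => simpa using hE0
      | succ k ih => rw [Nat.mul_succ, hEadd, hEp]; exact ih
    intro i
    conv_lhs => rw [← Nat.mod_add_div i p, hEadd, hmul, ← hE0, ← hEadd, add_zero]
  let Z : ZMod p → AddMonoid.End W := fun j => E j.val
  have hZcast : ∀ i : ℕ, Z (i : ZMod p) = E i := fun i => by
    simp only [Z, ZMod.val_natCast]; exact (hEmod i).symm
  have hZ0 : Z 0 = e := by simpa using (hZcast 0).trans hE0
  have hZadd : ∀ (i : ℕ) (j : ZMod p),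
      D.conjEndo ((g ^ i : ↥(D.P : Subgroup H)) : H) (Z j) = Z ((i : ZMod p) + j) := by
    intro i j
    rw [← ZMod.natCast_zmod_val j, hZcast, ← Nat.cast_add, hZcast, hEadd]
  have hne : ∀ j : ZMod p, j ≠ 0 → Z j ≠ e := by
    intro j hj h
    refine htriv fun b => ?_
    have hmult : ∀ k : ℕ, Z ((k : ZMod p) * j) = e := by
      intro k
      induction k with
      | zero => simpa using hZ0
      | succ k ih =>
        rw [Nat.cast_succ, add_mul, one_mul, add_comm, ← ZMod.natCast_zmod_val j, ← hZadd,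
          ZMod.natCast_zmod_val, ih]
        exact h
    have hall : ∀ i : ZMod p, Z i = e := fun i => by
      have := hmult (i * j⁻¹).val
      rwa [ZMod.natCast_zmod_val, mul_assoc, inv_mul_cancel₀ hj, mul_one] at this
    obtain ⟨i, n, hn, rfl⟩ := hdec b
    rw [Subgroup.coe_mul, conjEndo_mul, hfix n hn]
    exact (hZcast i).symm.trans (hall _)
  have horth : ∀ i j : ZMod p, i ≠ j → Z i * Z j = 0 := by
    intro i j hij
    have h0 : e * Z (j - i) = 0 :=
      (hatom (g ^ (j - i).val)).resolve_left fun h =>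
        hne (j - i) (sub_ne_zero.2 (Ne.symm hij)) h
    have h := congrArg (D.conjEndo ((g ^ i.val : ↥(D.P : Subgroup H)) : H)) h0
    rw [map_mul, map_zero, ← hZ0, hZadd, hZadd, ZMod.natCast_zmod_val, add_zero,
      add_sub_cancel] at h
    exact h
  have hidem : ∀ i, Z i * Z i = Z i := fun i => by
    show D.conjEndo _ e * D.conjEndo _ e = D.conjEndo _ e
    rw [← map_mul, he]
  -- `N` fixes every conjugate
  have hNfix : ∀ n ∈ N, ∀ i : ZMod p, D.conjEndo ((n : ↥(D.P : Subgroup H)) : H) (Z i) = Z i := by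
    intro n hn i
    show D.conjEndo _ (D.conjEndo _ e) = D.conjEndo _ e
    rw [← conjEndo_mul, ← Subgroup.coe_mul,
      show n * g ^ i.val = g ^ i.val * ((g ^ i.val)⁻¹ * n * g ^ i.val) by group, Subgroup.coe_mul,
      conjEndo_mul, hfix]
    simpa using Subgroup.Normal.conj_mem ‹N.Normal› n hn (g ^ i.val)⁻¹
  have hconj : ∀ b : ↥(D.P : Subgroup H), ∃ i : ZMod p, ∀ j,
      D.conjEndo (b : H) (Z j) = Z (i + j) := by
    intro b
    obtain ⟨i, n, hn, rfl⟩ := hdec b
    exact ⟨i, fun j => by rw [Subgroup.coe_mul, conjEndo_mul, hNfix n hn, hZadd]⟩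
  -- the conjugates sum to one
  set S : AddMonoid.End W := ∑ j, Z j with hSdef
  have hSidem : S * S = S := by
    rw [hSdef, Finset.sum_mul_sum]
    exact Finset.sum_congr rfl fun i _ => by
      rw [Finset.sum_eq_single i (fun j _ hj => horth i j (Ne.symm hj)) (by simp), hidem]
  have hSe : S * e = e := by
    rw [hSdef, Finset.sum_mul, Finset.sum_eq_single (0 : ZMod p)
      (fun j _ hj => by rw [← hZ0]; exact horth j 0 hj) (by simp), hZ0, he]
  have hS1 : S = 1 := by
    refine (D.idem_trivial hSidem fun b => ?_).resolve_left fun h => he0 ?_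
    · obtain ⟨i, hi⟩ := hconj b
      rw [hSdef, map_sum, Finset.sum_congr rfl fun j _ => hi j]
      exact Equiv.sum_comp (Equiv.addLeft i) Z
    · rw [← hSe, h, zero_mul]
  have hne0 : ∀ j, ∃ u : W, u ≠ 0 ∧ Z j u = u := by
    intro j
    obtain ⟨w, hw⟩ : ∃ w, Z j w ≠ 0 := by
      by_contra hall
      push Not at hall
      refine he0 ?_
      have h := congrArg (D.conjEndo ((g ^ (-j).val : ↥(D.P : Subgroup H)) : H))
        (show Z j = 0 from AddMonoidHom.ext hall)
      rwa [hZadd, map_zero, ZMod.natCast_zmod_val, neg_add_cancel, hZ0] at h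
    exact ⟨Z j w, hw, DFunLike.congr_fun (hidem j) w⟩
  have horth' : ∀ {i j : ZMod p} {w : W}, i ≠ j → Z j w = w → Z i w = 0 := by
    intro i j w hij hw
    rw [← hw]
    exact DFunLike.congr_fun (horth i j hij) w
  have hmove : ∀ (h : H) (j : ZMod p) (y : W), Z j y = y → ∃ k, Z k (D.ρ h y) = D.ρ h y := by
    intro h j y hy
    obtain ⟨b, hb⟩ := D.orb h y
    obtain ⟨i, hi⟩ := hconj b
    refine ⟨i + j, ?_⟩
    rw [← hb, ← hi j]
    show D.ρ (b : H) (Z j (D.ρ (b : H)⁻¹ (D.ρ (b : H) y))) = _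
    rw [← D.rho_mul (b : H)⁻¹, inv_mul_cancel, map_one]
    exact congrArg _ hy
  have hρinj : ∀ (h : H) {y : W}, y ≠ 0 → D.ρ h y ≠ 0 := by
    intro h y hy h0
    refine hy ?_
    rw [← show D.ρ h⁻¹ (D.ρ h y) = y by rw [← D.rho_mul, inv_mul_cancel, map_one]; rfl, h0, map_zero]
  have huniq : ∀ (h : H) (j : ZMod p), ∃ k, ∀ y, Z j y = y → Z k (D.ρ h y) = D.ρ h y := by
    intro h j
    obtain ⟨u, hu0, hu⟩ := hne0 j
    obtain ⟨k, hk⟩ := hmove h j u hu
    refine ⟨k, fun y hy => ?_⟩
    by_cases hy0 : y = 0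
    · simp [hy0]
    obtain ⟨l, hl⟩ := hmove h j y hy
    by_contra hne'
    have hlk : l ≠ k := fun h' => hne' (h' ▸ hl)
    obtain ⟨m, hm⟩ := hmove h j (u + y) (by rw [map_add, hu, hy])
    rw [map_add] at hm
    have e1 : Z k (D.ρ h u + D.ρ h y) = D.ρ h u := by
      rw [map_add, hk, horth' hlk.symm hl, add_zero]
    have e2 : Z l (D.ρ h u + D.ρ h y) = D.ρ h y := by
      rw [map_add, hl, horth' hlk hk, zero_add]
    have hmk : m = k := by
      by_contra hmk
      exact hρinj h hu0 (e1.symm.trans (horth' (Ne.symm hmk) hm))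
    subst hmk
    exact hρinj h hy0 (e2.symm.trans (horth' hlk hm))
  choose σ hσ using huniq
  have hσval : ∀ (h : H) (j k : ZMod p) (y : W), y ≠ 0 → Z j y = y →
      Z k (D.ρ h y) = D.ρ h y → σ h j = k := by
    intro h j k y hy0 hy hk
    by_contra hne'
    exact hρinj h hy0 ((hσ h j y hy).symm.trans (horth' hne' hk))
  have hσmul : ∀ a c j, σ (a * c) j = σ a (σ c j) := by
    intro a c j
    obtain ⟨u, hu0, hu⟩ := hne0 j
    exact hσval _ _ _ u hu0 hu (by rw [D.rho_mul]; exact hσ a _ _ (hσ c j u hu))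
  have hσone : ∀ j, σ 1 j = j := by
    intro j
    obtain ⟨u, hu0, hu⟩ := hne0 j
    exact hσval _ _ _ u hu0 hu (by rw [map_one]; exact hu)
  let f : H →* Equiv.Perm (ZMod p) := MonoidHom.mk' (fun h =>
    ⟨σ h, σ h⁻¹, fun j => by rw [← hσmul, inv_mul_cancel, hσone],
      fun j => by rw [← hσmul, mul_inv_cancel, hσone]⟩) fun a c => Equiv.ext fun j => hσmul a c j
  have hgσ : ∀ j, σ (g : H) j = j + 1 := by
    intro j
    obtain ⟨u, hu0, hu⟩ := hne0 j
    refine hσval _ _ _ u hu0 hu ?_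
    rw [show (j + 1 : ZMod p) = ((1 : ℕ) : ZMod p) + j by push_cast; ring, ← hZadd, pow_one]
    show D.ρ (g : H) (Z j (D.ρ (g : H)⁻¹ (D.ρ (g : H) u))) = _
    rw [← D.rho_mul (g : H)⁻¹, inv_mul_cancel, map_one]
    exact congrArg _ hu
  have hstep : ∀ h a, σ h (a + 1) - σ h a = 1 ∨ σ h (a + 1) - σ h a = -1 := by
    intro h a
    obtain ⟨u, hu0, hu⟩ := hne0 a
    obtain ⟨y, hy0, hy⟩ := hne0 (a + 1)
    obtain ⟨b, hb⟩ := D.orb h (u + y)
    obtain ⟨i, hi⟩ := hconj b
    have hbmove : ∀ (j : ZMod p) (z : W), Z j z = z → Z (i + j) (D.ρ (b : H) z) = D.ρ (b : H) z := by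
      intro j z hz
      rw [← hi j]
      show D.ρ (b : H) (Z j (D.ρ (b : H)⁻¹ (D.ρ (b : H) z))) = _
      rw [← D.rho_mul (b : H)⁻¹, inv_mul_cancel, map_one]
      exact congrArg _ hz
    have hab : a + 1 ≠ a := fun h' => one_ne_zero (add_left_cancel (a := a) (by rw [h', add_zero]))
    rw [map_add, map_add] at hb
    have key : ∀ (j : ZMod p) (z : W), z ≠ 0 → Z j z = z →
        (∀ j' z', (j' = a ∧ z' = u ∨ j' = a + 1 ∧ z' = y) → j' ≠ j → Z (i + j) (D.ρ (b : H) z') = 0) →
        Z (i + j) (D.ρ (b : H) u + D.ρ (b : H) y) = D.ρ (b : H) z →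
        σ h a = i + j ∨ σ h (a + 1) = i + j := by
      intro j z hz0 hz _ hsum
      by_contra hc
      push Not at hc
      rw [hb, map_add, horth' (Ne.symm hc.1) (hσ h a u hu),
        horth' (Ne.symm hc.2) (hσ h (a + 1) y hy), add_zero] at hsum
      exact hρinj _ hz0 hsum.symm
    have k1 := key a u hu0 hu (fun j' z' hh hne' => by
      rcases hh with ⟨rfl, rfl⟩ | ⟨rfl, rfl⟩
      · exact absurd rfl hne'
      · exact horth' (fun h' => hne' (add_left_cancel h').symm) (hbmove _ _ hy)) (by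
      rw [map_add, hbmove a u hu,
        horth' (fun h' => hab (add_left_cancel h').symm) (hbmove _ _ hy), add_zero])
    have k2 := key (a + 1) y hy0 hy (fun j' z' hh hne' => by
      rcases hh with ⟨rfl, rfl⟩ | ⟨rfl, rfl⟩
      · exact horth' (fun h' => hne' (add_left_cancel h').symm) (hbmove _ _ hu)
      · exact absurd rfl hne') (by
      rw [map_add, hbmove (a + 1) y hy,
        horth' (fun h' => hab (add_left_cancel h')) (hbmove _ _ hu), zero_add])
    have hinjσ : σ h (a + 1) ≠ σ h a := fun h' => hab ((f h).injective h')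
    rcases k1 with e1 | e1 <;> rcases k2 with e2 | e2
    · exact absurd (add_left_cancel (e1.symm.trans e2)).symm hab
    · left; rw [e1, e2]; ring
    · right; rw [e1, e2]; ring
    · exact absurd (add_left_cancel (e1.symm.trans e2)).symm hab
  have haff : ∀ h, ∃ a c : ZMod p, ∀ x, σ h x = a * x + c := by
    intro h
    by_cases h2 : p = 2
    · subst h2
      exact ⟨_, _, Lib.PrimeDegree.affine_two (f h)⟩
    have hconst : ∀ a, σ h (a + 1 + 1) - σ h (a + 1) = σ h (a + 1) - σ h a := by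
      intro a
      by_contra hne'
      have hcancel : σ h (a + 1 + 1) = σ h a := by
        rcases hstep h (a + 1) with e1 | e1 <;> rcases hstep h a with e2 | e2 <;>
          first
            | exact absurd (e1.trans e2.symm) hne'
            | linear_combination e1 + e2
      have h20 : (2 : ZMod p) = 0 := by
        linear_combination (f h).injective hcancel
      have : p ∣ 2 := (ZMod.natCast_eq_zero_iff 2 p).1 (by exact_mod_cast h20)
      exact h2 ((Nat.prime_dvd_prime_iff_eq hp.out Nat.prime_two).1 this)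
    refine ⟨σ h 1 - σ h 0, σ h 0, fun x => ?_⟩
    obtain ⟨k, rfl⟩ : ∃ k : ℕ, (k : ZMod p) = x := ⟨x.val, ZMod.natCast_zmod_val x⟩
    have hd : ∀ k : ℕ, σ h ((k : ZMod p) + 1) - σ h (k : ZMod p) = σ h 1 - σ h 0 := by
      intro k
      induction k with
      | zero => simp
      | succ k ih => rw [Nat.cast_succ, hconst]; exact ih
    induction k with
    | zero => simp
    | succ k ih =>
      rw [Nat.cast_succ]
      linear_combination hd k + ih
  haveI : MulAction.IsPretransitive ↥f.range (ZMod p) := ⟨fun x y => by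
    refine ⟨⟨f ((g : H) ^ (y - x).val), _, rfl⟩, ?_⟩
    show f ((g : H) ^ (y - x).val) x = y
    have : ∀ k : ℕ, f ((g : H) ^ k) x = x + k := by
      intro k
      induction k with
      | zero => simp
      | succ k ih =>
        rw [pow_succ', map_mul, Equiv.Perm.mul_apply, ih]
        show σ (g : H) _ = _
        rw [hgσ]; push_cast; ring
    rw [this, ZMod.natCast_zmod_val]; ring⟩
  have hsol : Group.IsSolvable ↥f.range :=
    Lib.PrimeDegree.solvable_of_affine (G := ↥f.range) (X := ZMod p) (Equiv.refl _) fun F => by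
      obtain ⟨_, h, rfl⟩ := F
      obtain ⟨a, c, hac⟩ := haff h
      exact ⟨a, c, hac⟩
  have h1 := eq_one_of_solvable_range D.perf f hsol (g : H)
  have h2 : σ (g : H) 0 = 0 := DFunLike.congr_fun h1 0
  rw [hgσ, zero_add] at h2
  exact one_ne_zero h2

/-- The subring generated by a set of elements of `P`. -/
def genRing (S : Set ↥(D.P : Subgroup H)) : Subring (AddMonoid.End W) :=
  Subring.closure ((fun b : ↥(D.P : Subgroup H) => D.ρ (b : H)) '' S)

theorem rho_mem_genRing {S : Set ↥(D.P : Subgroup H)} {b : ↥(D.P : Subgroup H)} (hb : b ∈ S) :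
    D.ρ (b : H) ∈ D.genRing S :=
  Subring.subset_closure ⟨b, hb, rfl⟩

theorem genRing_comm {S : Set ↥(D.P : Subgroup H)}
    (hS : ∀ s ∈ S, ∀ t ∈ S, s * t = t * s) :
    ∀ x ∈ D.genRing S, ∀ y ∈ D.genRing S, x * y = y * x := by
  have h1 : D.genRing S ≤ Subring.centralizer ((fun b : ↥(D.P : Subgroup H) => D.ρ (b : H)) '' S) := by
    refine Subring.closure_le.2 ?_
    rintro _ ⟨s, hs, rfl⟩
    rw [SetLike.mem_coe, Subring.mem_centralizer_iff]
    rintro _ ⟨t, ht, rfl⟩
    simp only [← map_mul, ← Subgroup.coe_mul, hS t ht s hs]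
  have h2 : D.genRing S ≤ Subring.centralizer (D.genRing S : Set (AddMonoid.End W)) := by
    refine Subring.closure_le.2 ?_
    rintro _ ⟨s, hs, rfl⟩
    rw [SetLike.mem_coe, Subring.mem_centralizer_iff]
    intro y hy
    exact (Subring.mem_centralizer_iff.1 (h1 hy) _ ⟨s, hs, rfl⟩).symm
  intro x hx y hy
  exact Subring.mem_centralizer_iff.1 (h2 hy) x hx

theorem conjEndo_mem_genRing {S : Set ↥(D.P : Subgroup H)} {a : H}
    (ha : ∀ s ∈ S, D.ρ (a * ((s : ↥(D.P : Subgroup H)) : H) * a⁻¹) ∈ D.genRing S)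
    {x : AddMonoid.End W} (hx : x ∈ D.genRing S) : D.conjEndo a x ∈ D.genRing S := by
  have h : D.genRing S ≤ (D.genRing S).comap (D.conjEndo a) := by
    refine Subring.closure_le.2 ?_
    rintro _ ⟨s, hs, rfl⟩
    rw [SetLike.mem_coe, Subring.mem_comap, conjEndo_rho]
    exact ha s hs
  exact h hx

theorem conjEndo_eq_self_genRing {S : Set ↥(D.P : Subgroup H)} {a : H}
    (ha : ∀ s ∈ S, a * ((s : ↥(D.P : Subgroup H)) : H) * a⁻¹ = s)
    {x : AddMonoid.End W} (hx : x ∈ D.genRing S) : D.conjEndo a x = x := by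
  have h : D.genRing S ≤ RingHom.eqLocus (D.conjEndo a) (RingHom.id _) := by
    refine Subring.closure_le.2 ?_
    rintro _ ⟨s, hs, rfl⟩
    show D.conjEndo a (D.ρ (s : H)) = D.ρ (s : H)
    rw [conjEndo_rho, ha s hs]
  exact h hx

include D in
theorem natCast_eq_zero : (q : AddMonoid.End W) = 0 := by
  refine AddMonoidHom.ext fun w => ?_
  exact (AddMonoid.End.natCast_apply q w).trans (D.exp w)

/-- If the index of the centraliser of the normal commutative set is at most `p`, the subring is a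
domain. -/
theorem genRing_domain [Finite W] [Fact q.Prime] {S : Set ↥(D.P : Subgroup H)}
    (hS : ∀ s ∈ S, ∀ t ∈ S, s * t = t * s)
    (hSn : ∀ b : ↥(D.P : Subgroup H), ∀ s ∈ S,
      D.ρ ((b : H) * (s : H) * (b : H)⁻¹) ∈ D.genRing S)
    (N : Subgroup ↥(D.P : Subgroup H)) [N.Normal] (hN : N.index = p ∨ N = ⊤)
    (hNS : ∀ n ∈ N, ∀ s ∈ S, n * s = s * n)
    {x y : AddMonoid.End W} (hx : x ∈ D.genRing S) (hy : y ∈ D.genRing S) (hxy : x * y = 0) :
    x = 0 ∨ y = 0 := by
  classical
  by_contra hc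
  push Not at hc
  haveI : Finite (AddMonoid.End W) := Finite.of_injective _ DFunLike.coe_injective
  letI : CommRing ↥(D.genRing S) :=
    { (inferInstance : Ring ↥(D.genRing S)) with
      mul_comm := fun a b => Subtype.ext (D.genRing_comm hS a.1 a.2 b.1 b.2) }
  haveI : Nontrivial (AddMonoid.End W) := ⟨⟨x, 0, hc.1⟩⟩
  haveI : CharP ↥(D.genRing S) q := by
    have h0 : (q : ↥(D.genRing S)) = 0 := Subtype.ext (by simpa using D.natCast_eq_zero)
    exact (CharP.charP_iff_prime_eq_zero (Fact.out : q.Prime)).2 h0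
  set M := Nat.card ↥(D.P : Subgroup H)
  have hcop : q.Coprime M := (Nat.Prime.coprime_iff_not_dvd Fact.out).2 fun h =>
    D.ndvd (h.trans (Subgroup.card_subgroup_dvd_card _))
  set K := M.totient with hK
  have hK0 : 0 < K := Nat.totient_pos.2 Nat.card_pos
  set Q := q ^ K with hQ
  have hQ2 : 2 ≤ Q := (Fact.out : q.Prime).two_le.trans (Nat.le_self_pow hK0.ne' q)
  have hgen : ∀ b : ↥(D.P : Subgroup H), D.ρ (b : H) ^ Q = D.ρ (b : H) := by
    intro b
    rw [← map_pow, ← Subgroup.coe_pow]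
    congr 2
    conv_rhs => rw [← pow_one b]
    exact pow_eq_pow_iff_modEq.2 ((Nat.ModEq.pow_totient hcop).of_dvd (orderOf_dvd_natCard b))
  have hfix : ∀ z : ↥(D.genRing S), z ^ Q = z := by
    rintro ⟨z, hz⟩
    induction hz using Subring.closure_induction with
    | mem u hu =>
      obtain ⟨s, -, rfl⟩ := hu
      exact Subtype.ext (by simpa using hgen s)
    | zero => exact zero_pow (by omega)
    | one => exact one_pow Q
    | add u v hu hv ihu ihv =>
      have := add_pow_char_pow (p := q) (n := K) (⟨u, hu⟩ : ↥(D.genRing S)) ⟨v, hv⟩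
      rw [← hQ, ihu, ihv] at this
      exact this
    | neg u hu ihu =>
      have := congrArg Neg.neg ihu
      rcases Nat.even_or_odd Q with he | ho
      · have h2 : (2 : ↥(D.genRing S)) = 0 := by
          have hq2 : q = 2 := by
            by_contra h
            exact Nat.not_even_iff_odd.2 (((Fact.out : q.Prime).odd_of_ne_two h).pow) he
          have h0 := CharP.cast_eq_zero ↥(D.genRing S) q
          have h1 : ((q : ℕ) : ↥(D.genRing S)) = ((2 : ℕ) : ↥(D.genRing S)) := congrArg _ hq2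
          rw [h1] at h0
          exact_mod_cast h0
        have hneg : (⟨-u, Subring.neg_mem _ hu⟩ : ↥(D.genRing S)) = ⟨u, hu⟩ := by
          have : (⟨u, hu⟩ : ↥(D.genRing S)) + ⟨u, hu⟩ = 0 := by rw [← two_mul, h2, zero_mul]
          exact neg_eq_of_add_eq_zero_left this
        rw [hneg, ihu]
      · show (-(⟨u, hu⟩ : ↥(D.genRing S))) ^ Q = _
        rw [ho.neg_pow, ihu]; rfl
    | mul u v hu hv ihu ihv =>
      show ((⟨u, hu⟩ : ↥(D.genRing S)) * ⟨v, hv⟩) ^ Q = _
      rw [mul_pow, ihu, ihv]; rfl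
  -- an atom
  set c : ↥(D.genRing S) := ⟨x, hx⟩
  set d : ↥(D.genRing S) := ⟨y, hy⟩
  have hc0 : c ≠ 0 := fun h => hc.1 (congrArg Subtype.val h)
  have hd0 : d ≠ 0 := fun h => hc.2 (congrArg Subtype.val h)
  have hcd : c * d = 0 := Subtype.ext hxy
  set e₀ := c ^ (Q - 1) with he₀
  have hec : e₀ * c = c := by rw [he₀, ← pow_succ, show Q - 1 + 1 = Q by omega, hfix]
  have he₀i : e₀ * e₀ = e₀ := by
    conv_lhs => arg 2; rw [he₀, show Q - 1 = (Q - 2) + 1 by omega, pow_succ']
    rw [← mul_assoc, hec, ← pow_succ', show Q - 2 + 1 = Q - 1 by omega]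
  have he₀0 : e₀ ≠ 0 := fun h => hc0 (by rw [← hec, h, zero_mul])
  have he₀d : e₀ * d = 0 := by
    rw [he₀, show Q - 1 = (Q - 2) + 1 by omega, pow_succ, mul_assoc, hcd, mul_zero]
  let R : ↥(D.genRing S) → Set ↥(D.genRing S) := fun e => Set.range fun z => e * z
  obtain ⟨e, ⟨hei, he0⟩, hmin⟩ := Set.exists_min_image
    {e : ↥(D.genRing S) | e * e = e ∧ e ≠ 0} (fun e => (R e).ncard) (Set.toFinite _)
    ⟨e₀, he₀i, he₀0⟩
  have he1 : e ≠ 1 := by
    rintro rfl
    have h1 := hmin e₀ ⟨he₀i, he₀0⟩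
    have h2 : R (1 : ↥(D.genRing S)) = Set.univ := Set.eq_univ_of_forall fun z => ⟨z, one_mul z⟩
    simp only [h2] at h1
    have h3 : R e₀ = Set.univ := Set.eq_of_subset_of_ncard_le (Set.subset_univ _) h1
    obtain ⟨z, hz⟩ : d ∈ R e₀ := h3 ▸ Set.mem_univ d
    simp only at hz
    exact hd0 (by rw [← hz, ← he₀i, mul_assoc, hz, he₀d])
  have hatom : ∀ f : ↥(D.genRing S), f * f = f → e * f = e ∨ e * f = 0 := by
    intro f hf
    by_cases h0 : e * f = 0
    · exact Or.inr h0
    left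
    have hi : (e * f) * (e * f) = e * f := by rw [mul_mul_mul_comm, hei, hf]
    have h1 := hmin (e * f) ⟨hi, h0⟩
    have hsub : R (e * f) ⊆ R e := by
      rintro _ ⟨z, rfl⟩; exact ⟨f * z, (mul_assoc _ _ _).symm⟩
    have h3 := Set.eq_of_subset_of_ncard_le hsub h1
    obtain ⟨z, hz⟩ : e ∈ R (e * f) := h3 ▸ ⟨1, mul_one e⟩
    simp only at hz
    calc e * f = (e * f * z) * f := by rw [hz]
      _ = e * (f * f) * z := by ring
      _ = e := by rw [hf, hz]
  refine D.no_split (e := e.1) (congrArg Subtype.val hei) (fun h => he0 (Subtype.ext h))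
    (fun h => he1 (Subtype.ext h)) N hN (fun n hn => ?_) fun b => ?_
  · exact D.conjEndo_eq_self_genRing (fun s hs => by
      rw [← Subgroup.coe_mul, hNS n hn s hs, Subgroup.coe_mul, mul_inv_cancel_right]) e.2
  · have hmem : ∀ b : ↥(D.P : Subgroup H), D.conjEndo (b : H) e.1 ∈ D.genRing S :=
      fun b => D.conjEndo_mem_genRing (fun s hs => hSn b s hs) e.2
    have hidem : ∀ b : ↥(D.P : Subgroup H),
        (⟨_, hmem b⟩ : ↥(D.genRing S)) * ⟨_, hmem b⟩ = ⟨_, hmem b⟩ := fun b => Subtype.ext (by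
      show D.conjEndo _ e.1 * D.conjEndo _ e.1 = _
      rw [← map_mul, ← Subring.coe_mul, hei])
    rcases hatom ⟨_, hmem b⟩ (hidem b) with h | h
    · left
      have hback : D.conjEndo (b : H) (D.conjEndo ((b⁻¹ : ↥(D.P : Subgroup H)) : H) e.1) = e.1 := by
        rw [← conjEndo_mul, ← Subgroup.coe_mul, mul_inv_cancel, Subgroup.coe_one]
        exact D.conjEndo_eq_self (by rw [map_one, one_mul, mul_one])
      have h3 : e.1 * D.conjEndo (b : H) e.1 = e.1 := congrArg Subtype.val h
      rcases hatom ⟨_, hmem b⁻¹⟩ (hidem b⁻¹) with h' | h'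
      · have h2 : D.conjEndo (b : H) (e.1 * D.conjEndo ((b⁻¹ : ↥(D.P : Subgroup H)) : H) e.1) =
            D.conjEndo (b : H) e.1 := congrArg _ (congrArg Subtype.val h')
        rw [map_mul, hback, D.genRing_comm hS _ (hmem b) _ e.2, h3] at h2
        exact h2.symm
      · exfalso
        have h2 : D.conjEndo (b : H) (e.1 * D.conjEndo ((b⁻¹ : ↥(D.P : Subgroup H)) : H) e.1) =
            D.conjEndo (b : H) 0 := congrArg _ (congrArg Subtype.val h')
        rw [map_mul, hback, map_zero, D.genRing_comm hS _ (hmem b) _ e.2, h3] at h2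
        exact he0 (Subtype.ext h2)
    · exact Or.inr (congrArg Subtype.val h)

end OrbitCase

end Cfsg.Agent.Lib.BaerClass
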