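import Mathlib
import Cfsg.Agent.Lib.BaerClass.Setup
import Cfsg.Agent.Lib.PGroupNormalSq.Basic

/-!
First consequences for a perfect group with the orbits of a Sylow subgroup: the plane case, and no
normal elementary abelian subgroup of order `p²` in the Sylow subgroup.
-/

set_option autoImplicit false

namespace Cfsg.Agent.Lib.BaerClass.OrbitCase

open Subgroup

variable {p q : ℕ} {H W : Type*} [Group H] [AddCommGroup W] (D : OrbitCase p q H W)

theorem rho_ne_zero (h : H) {y : W} (hy : y ≠ 0) : D.ρ h y ≠ 0 := by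
  intro h0
  refine hy ?_
  rw [← show D.ρ h⁻¹ (D.ρ h y) = y by rw [← D.rho_mul, inv_mul_cancel, map_one]; rfl, h0, map_zero]

theorem eq_one_of_rho_eq {h : H} (hh : ∀ w, D.ρ h w = w) : h = 1 :=
  D.inj (by rw [map_one]; exact AddMonoidHom.ext hh)

variable [Finite H] [hp : Fact p.Prime] [Finite W]

theorem sylow_ne_bot [Nontrivial H] : (D.P : Subgroup H) ≠ ⊥ := by
  intro hb
  obtain ⟨h, hh⟩ := exists_ne (1 : H)
  refine hh (D.eq_one_of_rho_eq fun w => ?_)
  obtain ⟨b, hb'⟩ := D.orb h w
  have hb1 : (b : H) = 1 := Subgroup.mem_bot.1 (hb ▸ b.2)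
  rw [← hb', hb1, map_one]
  rfl

include D in
theorem not_isSolvable [Nontrivial H] : ¬ Group.IsSolvable H := fun _ =>
  (Group.IsSolvable.commutator_lt_top_of_nontrivial H).ne D.perf

/-- The subring is a domain, as an instance-ready statement. -/
theorem genRing_noZeroDivisors [Fact q.Prime] {S : Set ↥(D.P : Subgroup H)}
    (hS : ∀ s ∈ S, ∀ t ∈ S, s * t = t * s)
    (hSn : ∀ b : ↥(D.P : Subgroup H), ∀ s ∈ S,
      D.ρ ((b : H) * (s : H) * (b : H)⁻¹) ∈ D.genRing S)
    (N : Subgroup ↥(D.P : Subgroup H)) [N.Normal] (hN : N.index = p ∨ N = ⊤)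
    (hNS : ∀ n ∈ N, ∀ s ∈ S, n * s = s * n) : NoZeroDivisors ↥(D.genRing S) := by
  refine ⟨fun {a b} hab => ?_⟩
  rcases D.genRing_domain hS hSn N hN hNS a.2 b.2 (congrArg Subtype.val hab) with h | h
  · exact Or.inl (Subtype.ext h)
  · exact Or.inr (Subtype.ext h)

/-- No normal elementary abelian subgroup `⟨z, w⟩` of order `p²`. -/
theorem false_of_pair [Fact q.Prime] [Nontrivial W] (z w : ↥(D.P : Subgroup H))
    (hzc : z ∈ center ↥(D.P : Subgroup H)) (hzp : z ^ p = 1) (hz1 : z ≠ 1) (hwp : w ^ p = 1)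
    (hwz : w ∉ zpowers z)
    (hn : ∀ b : ↥(D.P : Subgroup H), b * w * b⁻¹ ∈ closure ({z, w} : Set ↥(D.P : Subgroup H))) :
    False := by
  set C := centralizer ({w} : Set ↥(D.P : Subgroup H)) with hC
  have hle : Nat.card (↥(D.P : Subgroup H) ⧸ C) < p ^ 2 := by
    rw [← PGroupNormalSq.card_closure_pair hzc hzp hwp hz1 hwz]
    have hw1 : w ≠ 1 := fun h => hwz (h ▸ one_mem _)
    let F : (↥(D.P : Subgroup H) ⧸ C) → {x // x ∈ closure ({z, w} : Set ↥(D.P : Subgroup H))} :=
      fun Qc => ⟨Qc.out * w * Qc.out⁻¹, hn _⟩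
    have hF : Function.Injective F := by
      intro a b hab
      have h := congrArg Subtype.val hab
      simp only [F] at h
      refine (QuotientGroup.out_eq' a).symm.trans (Eq.trans ?_ (QuotientGroup.out_eq' b))
      rw [QuotientGroup.eq]
      refine mem_centralizer_iff.2 ?_
      intro m hm
      rw [Set.mem_singleton_iff] at hm
      subst m
      calc w * (a.out⁻¹ * b.out) = a.out⁻¹ * (a.out * w * a.out⁻¹) * b.out := by group
        _ = a.out⁻¹ * (b.out * w * b.out⁻¹) * b.out := by rw [h]
        _ = a.out⁻¹ * b.out * w := by group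
    refine lt_of_le_of_ne (Nat.card_le_card_of_injective F hF) fun hc => ?_
    obtain ⟨a, ha⟩ := (hF.bijective_of_nat_card_le hc.ge).2 ⟨1, one_mem _⟩
    exact hw1 (conj_eq_one_iff.1 (congrArg Subtype.val ha))
  obtain ⟨j, hj⟩ := (D.P.isPGroup').index C
  have hjp : C.index = p ∨ C = ⊤ := by
    rcases j with _ | _ | j
    · exact Or.inr (index_eq_one.1 (by rw [hj, pow_zero]))
    · exact Or.inl (by rw [hj, pow_one])
    · exfalso
      have : p ^ 2 ≤ p ^ (j + 1 + 1) := Nat.pow_le_pow_right hp.out.pos (by omega)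
      exact absurd (this.trans hj.ge) (not_le.2 hle)
  haveI : C.Normal := by
    rcases hjp with h | h
    · refine normal_of_index_eq_minFac_card ?_
      obtain ⟨k, hk⟩ := D.P.isPGroup'.exists_card_eq
      have hk0 : k ≠ 0 := by
        rintro rfl
        rw [pow_zero] at hk
        have := C.index_dvd_card
        rw [h, hk] at this
        exact hp.out.one_lt.ne' (Nat.dvd_one.1 this)
      rw [h, hk, Nat.pow_minFac hk0, hp.out.minFac_eq]
    · rw [h]; infer_instance
  have hz : ∀ g, g * z = z * g := fun g => mem_center_iff.1 hzc g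
  set S : Set ↥(D.P : Subgroup H) := {z, w} with hSdef
  have hS : ∀ s ∈ S, ∀ t ∈ S, s * t = t * s := by
    rintro s (rfl | rfl) t (rfl | rfl)
    · rfl
    · exact (hz _).symm
    · exact hz _
    · rfl
  have hclos : ∀ x ∈ closure S, D.ρ (x : H) ∈ D.genRing S := by
    intro x hx
    induction hx using closure_induction with
    | mem y hy => exact D.rho_mem_genRing hy
    | one => simp only [Subgroup.coe_one, map_one]; exact one_mem _
    | mul a b _ _ ha hb => rw [Subgroup.coe_mul, map_mul]; exact mul_mem ha hb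
    | inv a _ ha =>
      have h1 : a⁻¹ = a ^ (orderOf a - 1) := by
        rw [inv_eq_iff_mul_eq_one, ← pow_succ']
        rw [show orderOf a - 1 + 1 = orderOf a by have := orderOf_pos a; omega, pow_orderOf_eq_one]
      rw [h1, Subgroup.coe_pow, map_pow]
      exact pow_mem ha _
  have hSn : ∀ b : ↥(D.P : Subgroup H), ∀ s ∈ S,
      D.ρ ((b : H) * (s : H) * (b : H)⁻¹) ∈ D.genRing S := by
    intro b s hs
    rw [show (b : H) * (s : H) * (b : H)⁻¹ = ((b * s * b⁻¹ : ↥(D.P : Subgroup H)) : H) by simp]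
    rcases hs with rfl | rfl
    · rw [hz b, mul_inv_cancel_right]; exact D.rho_mem_genRing (Or.inl rfl)
    · exact hclos _ (hn b)
  haveI := D.genRing_noZeroDivisors hS hSn C hjp fun n hn' s hs => by
    rcases hs with rfl | rfl
    · exact hz n
    · exact ((mem_centralizer_singleton_iff).1 hn')
  letI : CommRing ↥(D.genRing S) :=
    { (inferInstance : Ring ↥(D.genRing S)) with
      mul_comm := fun a b => Subtype.ext (D.genRing_comm hS a.1 a.2 b.1 b.2) }
  haveI : Nontrivial ↥(D.genRing S) := ⟨⟨0, 1, fun h => by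
    obtain ⟨v, hv⟩ := exists_ne (0 : W)
    exact hv (DFunLike.congr_fun (congrArg Subtype.val h) v).symm⟩⟩
  haveI : IsDomain ↥(D.genRing S) := NoZeroDivisors.to_isDomain _
  have hinj : ∀ {a b : ↥(D.P : Subgroup H)}, D.ρ (a : H) = D.ρ (b : H) → a = b :=
    fun h => Subtype.ext (D.inj h)
  let ζ : ↥(D.genRing S) := ⟨D.ρ (z : H), D.rho_mem_genRing (Or.inl rfl)⟩
  let ω : ↥(D.genRing S) := ⟨D.ρ (w : H), D.rho_mem_genRing (Or.inr rfl)⟩
  have hprim : IsPrimitiveRoot ζ p := by
    rw [IsPrimitiveRoot.iff_orderOf]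
    refine orderOf_eq_prime (Subtype.ext ?_) fun h => hz1 (hinj ?_)
    · simp only [ζ, SubmonoidClass.coe_pow]
      rw [← map_pow, ← Subgroup.coe_pow, hzp, Subgroup.coe_one, map_one]; rfl
    · rw [Subgroup.coe_one, map_one]; exact congrArg Subtype.val h
  have hω : ω ^ p = 1 := Subtype.ext (by
    simp only [ω, SubmonoidClass.coe_pow]
    rw [← map_pow, ← Subgroup.coe_pow, hwp, Subgroup.coe_one, map_one]; rfl)
  haveI : NeZero p := ⟨hp.out.ne_zero⟩
  obtain ⟨i, -, hi⟩ := hprim.eq_pow_of_pow_eq_one hω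
  refine hwz (mem_zpowers_iff.2 ⟨i, ?_⟩)
  rw [zpow_natCast]
  apply hinj
  rw [Subgroup.coe_pow, map_pow]
  exact congrArg Subtype.val hi

include D in
/-- The module has more than `q²` elements. -/
theorem false_of_small [Fact q.Prime] [Nontrivial H] [Nontrivial W]
    (hW : Nat.card W ≤ q ^ 2) : False := by
  have hq : q.Prime := Fact.out
  have iM : Module (ZMod q) W := AddCommGroup.zmodModule D.exp
  haveI : Module.Finite (ZMod q) W := Module.Finite.of_finite
  have hfr : Module.finrank (ZMod q) W ≤ 2 := by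
    rw [Module.natCard_eq_pow_finrank (K := ZMod q) (V := W), Nat.card_zmod] at hW
    exact (Nat.pow_le_pow_iff_right hq.one_lt).1 hW
  let L : H →* (W →ₗ[ZMod q] W) :=
    { toFun := fun h => AddMonoidHom.toZModLinearMap q (D.ρ h)
      map_one' := LinearMap.ext fun w => by
        show D.ρ 1 w = w
        rw [map_one]; rfl
      map_mul' := fun a b => LinearMap.ext fun w => D.rho_mul a b w }
  have hL : ∀ h w, L h w = D.ρ h w := fun h w => rfl
  let δ : H →* (ZMod q)ˣ := ((LinearMap.det).comp L).toHomUnits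
  have hδ : ∀ h, LinearMap.det (L h) = 1 := fun h =>
    congrArg Units.val (eq_one_of_solvable_range D.perf δ
      (Group.isSolvable_of_comm fun a b => mul_comm a b) h)
  have hfix : ∀ (h : H) (v : W), v ≠ 0 → D.ρ h v = v → h = 1 := by
    intro h v hv hhv
    have hpow : ∀ k : ℕ, D.ρ (h ^ k) v = v := by
      intro k
      induction k with
      | zero => rw [pow_zero, map_one]; rfl
      | succ k ih => rw [pow_succ, D.rho_mul, hhv, ih]
    by_cases h2 : Module.finrank (ZMod q) W = 2
    · obtain ⟨w, hw⟩ : ∃ w, LinearIndependent (ZMod q) ![v, w] := by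
        obtain ⟨w, hw⟩ : ∃ w, w ∉ Submodule.span (ZMod q) ({v} : Set W) := by
          by_contra hall
          push Not at hall
          have h1 := finrank_span_singleton (K := ZMod q) hv
          rw [(Submodule.eq_top_iff'.2 hall), finrank_top, h2] at h1
          exact absurd h1 (by norm_num)
        refine ⟨w, LinearIndependent.pair_iff.2 fun s t hst => ?_⟩
        by_cases ht : t = 0
        · rw [ht, zero_smul, add_zero] at hst
          exact ⟨(smul_eq_zero.1 hst).resolve_right hv, ht⟩
        · exfalso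
          refine hw (Submodule.mem_span_singleton.2 ⟨-(t⁻¹ * s), ?_⟩)
          rw [neg_smul, mul_smul, show s • v = -(t • w) from eq_neg_of_add_eq_zero_left hst, smul_neg,
            inv_smul_smul₀ ht, neg_neg]
      let B := basisOfLinearIndependentOfCardEqFinrank hw (by rw [Fintype.card_fin, h2])
      have hB : (B : Fin 2 → W) = ![v, w] := coe_basisOfLinearIndependentOfCardEqFinrank _ _
      have hB0 : B 0 = v := by rw [hB]; rfl
      have hB1 : B 1 = w := by rw [hB]; rfl
      have hd := hδ h
      rw [← LinearMap.det_toMatrix B, Matrix.det_fin_two] at hd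
      simp only [LinearMap.toMatrix_apply, hB0, hB1, hL, hhv] at hd
      rw [show B.repr v = Finsupp.single 0 1 by rw [← hB0, B.repr_self]] at hd
      simp only [Finsupp.single_eq_same,
        Finsupp.single_eq_of_ne (show (1 : Fin 2) ≠ 0 by decide), one_mul, mul_zero, sub_zero] at hd
      set c := B.repr (D.ρ h w) 0
      have hhw : D.ρ h w = c • v + w := by
        conv_lhs => rw [← B.sum_repr (D.ρ h w)]
        rw [Fin.sum_univ_two, hB0, hB1, hd, one_smul]
      have hk : ∀ k : ℕ, D.ρ (h ^ k) w = ((k : ZMod q) * c) • v + w := by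
        intro k
        induction k with
        | zero => rw [pow_zero, map_one]; simp
        | succ k ih =>
          rw [pow_succ, D.rho_mul, hhw, map_add, ih,
            show D.ρ (h ^ k) (c • v) = c • v by
              rw [← hL, map_smul, hL, hpow], Nat.cast_succ, add_mul, one_mul, add_smul]
          abel
      have h1 : L (h ^ q) = 1 := B.ext fun i => by
        fin_cases i
        · show L (h ^ q) (B 0) = B 0
          rw [hB0, hL, hpow]
        · show L (h ^ q) (B 1) = B 1
          rw [hB1, hL, hk, ZMod.natCast_self, zero_mul, zero_smul, zero_add]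
      have hq1 : h ^ q = 1 := D.eq_one_of_rho_eq fun x => by rw [← hL, h1]; rfl
      rcases (Nat.dvd_prime hq).1 (orderOf_dvd_of_pow_eq_one hq1) with h0 | h0
      · exact orderOf_eq_one_iff.1 h0
      · exact absurd (h0 ▸ orderOf_dvd_natCard h) D.ndvd
    · -- a line
      refine D.eq_one_of_rho_eq fun x => ?_
      have h1 : Module.finrank (ZMod q) W = 1 := by
        have : 0 < Module.finrank (ZMod q) W := Module.finrank_pos
        omega
      obtain ⟨c, rfl⟩ := (finrank_eq_one_iff_of_nonzero' v hv).1 h1 x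
      rw [← hL, map_smul, hL, hhv]
  refine D.not_isSolvable ?_
  obtain ⟨v, hv⟩ := exists_ne (0 : W)
  have htop : (D.P : Subgroup H) = ⊤ := by
    rw [Subgroup.eq_top_iff']
    intro h
    obtain ⟨b, hb⟩ := D.orb h v
    have h1 := hfix ((b : H)⁻¹ * h) v hv (by
      rw [D.rho_mul, ← hb, ← D.rho_mul, inv_mul_cancel, map_one]; rfl)
    rw [inv_mul_eq_one] at h1
    exact h1 ▸ b.2
  have hpH : IsPGroup p (⊤ : Subgroup H) := htop ▸ D.P.isPGroup'
  haveI := (hpH.of_equiv Subgroup.topEquiv).isNilpotent
  infer_instance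

end Cfsg.Agent.Lib.BaerClass.OrbitCase
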