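import Mathlib
import Cfsg.Agent.Lib.BaerClass.Rings
import Cfsg.Agent.Lib.BaerClass.Linearized
import Cfsg.Agent.Lib.BaerClass.Arith

/-!
A perfect group having the orbits of a cyclic Sylow subgroup.
-/

set_option autoImplicit false

namespace Cfsg.Agent.Lib.BaerClass.OrbitCase

open Subgroup

variable {p q : ℕ} {H W : Type*} [Group H] [AddCommGroup W] (D : OrbitCase p q H W)

include D in
theorem odd_prime_or_two [Finite H] [hp : Fact p.Prime] [Nontrivial H]
    (hcyc : IsCyclic (D.P : Subgroup H)) (hne : (D.P : Subgroup H) ≠ ⊥) :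
    ∃ h ∈ normalizer ((D.P : Subgroup H) : Set H), h ∉ centralizer ((D.P : Subgroup H) : Set H) := by
  by_contra hc
  push Not at hc
  set f := MonoidHom.transferSylow D.P hc
  have hker := MonoidHom.ker_transferSylow_isComplement' D.P hc
  haveI : IsMulCommutative (D.P : Subgroup H) := hcyc.isMulCommutative
  have h1 : f.ker = ⊤ := (Subgroup.eq_top_iff' _).2 fun x =>
    eq_one_of_solvable_range D.perf f (Group.isSolvable_of_comm fun a b => by
      exact Subtype.ext (IsMulCommutative.is_comm.comm a.1 b.1)) x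
  have h2 := hker.card_mul
  rw [h1, card_top] at h2
  exact hne (card_eq_one.1 (Nat.eq_of_mul_eq_mul_left Nat.card_pos (h2.trans (mul_one _).symm)))

variable [Finite H] [hp : Fact p.Prime] [Finite W]

include D in
theorem false_of_cyclic [Fact q.Prime] [Nontrivial H] [Nontrivial W] (g₀ : ↥(D.P : Subgroup H))
    (hg₀ : ∀ b : ↥(D.P : Subgroup H), b ∈ zpowers g₀) : False := by
  classical
  have hcyc : IsCyclic (D.P : Subgroup H) := ⟨g₀, hg₀⟩
  have hPne := D.sylow_ne_bot
  -- `p` is odd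
  obtain ⟨h₁, hh₁N, hh₁C⟩ := D.odd_prime_or_two hcyc hPne
  have hp2 : p ≠ 2 := by
    intro h2
    refine hh₁C (IsCyclic.normalizer_le_centralizer ?_ hcyc hh₁N)
    obtain ⟨k, hk⟩ := D.P.isPGroup'.exists_card_eq
    have hk0 : k ≠ 0 := fun h => hPne (card_eq_one.1 (by rw [hk, h, pow_zero]))
    have h2H : 2 ∣ Nat.card H := by
      refine dvd_trans ?_ (card_subgroup_dvd_card (D.P : Subgroup H))
      rw [hk, h2]
      exact dvd_pow_self 2 hk0
    exact ((Nat.minFac_eq_two_iff _).2 h2H).trans h2.symm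
  -- the field
  have hcomm : ∀ a b : ↥(D.P : Subgroup H), a * b = b * a := by
    intro a b
    haveI := hcyc.isMulCommutative
    exact IsMulCommutative.is_comm.comm a b
  set S : Set ↥(D.P : Subgroup H) := {g₀} with hSdef
  have hS : ∀ s ∈ S, ∀ t ∈ S, s * t = t * s := fun s _ t _ => hcomm s t
  have hSn : ∀ b : ↥(D.P : Subgroup H), ∀ s ∈ S,
      D.ρ ((b : H) * (s : H) * (b : H)⁻¹) ∈ D.genRing S := fun b s hs => by
    rw [← Subgroup.coe_mul, hcomm b s, Subgroup.coe_mul, mul_inv_cancel_right]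
    exact D.rho_mem_genRing hs
  haveI := D.genRing_noZeroDivisors hS hSn ⊤ (Or.inr rfl) fun n _ s _ => hcomm n s
  letI : CommRing ↥(D.genRing S) :=
    { (inferInstance : Ring ↥(D.genRing S)) with
      mul_comm := fun a b => Subtype.ext (D.genRing_comm hS a.1 a.2 b.1 b.2) }
  obtain ⟨v, hv⟩ := exists_ne (0 : W)
  haveI : Nontrivial ↥(D.genRing S) := ⟨⟨0, 1, fun h =>
    hv (DFunLike.congr_fun (congrArg Subtype.val h) v).symm⟩⟩
  haveI : IsDomain ↥(D.genRing S) := NoZeroDivisors.to_isDomain _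
  haveI : Finite (AddMonoid.End W) := Finite.of_injective _ DFunLike.coe_injective
  letI : Fintype ↥(D.genRing S) := Fintype.ofFinite _
  letI : Field ↥(D.genRing S) := Fintype.fieldOfDomain _
  haveI : CharP ↥(D.genRing S) q :=
    (CharP.charP_iff_prime_eq_zero (Fact.out : q.Prime)).2
      (Subtype.ext (by simpa using D.natCast_eq_zero))
  let β : ↥(D.genRing S) := ⟨D.ρ (g₀ : H), D.rho_mem_genRing rfl⟩
  have hβpow : ∀ k : ℕ, ((β ^ k : ↥(D.genRing S)) : AddMonoid.End W) = D.ρ ((g₀ ^ k : ↥(D.P : Subgroup H)) : H) := by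
    intro k
    simp [β]
  have hPpow : ∀ b : ↥(D.P : Subgroup H), ∃ k : ℕ, b = g₀ ^ k := fun b => by
    obtain ⟨k, hk⟩ := mem_powers_iff_mem_zpowers.2 (hg₀ b)
    exact ⟨k, hk.symm⟩
  -- evaluation at `v`
  let ev : ↥(D.genRing S) →+ W :=
    { toFun := fun x => x.1 v
      map_zero' := rfl
      map_add' := fun x y => rfl }
  have hevinj : Function.Injective ev := by
    rw [injective_iff_map_eq_zero]
    intro x hx
    by_contra hx0
    refine hv ?_
    have h1 : x⁻¹ * x = 1 := inv_mul_cancel₀ hx0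
    have h2 : (x⁻¹ : ↥(D.genRing S)).1 (x.1 v) = v :=
      DFunLike.congr_fun (congrArg Subtype.val h1) v
    rw [← h2, show x.1 v = 0 from hx, map_zero]
  have hevsurj : Function.Surjective ev := by
    rw [← AddMonoidHom.range_eq_top]
    refine (D.irr _ fun b u hu => ?_).resolve_left fun hb => ?_
    · obtain ⟨x, rfl⟩ := hu
      obtain ⟨k, rfl⟩ := hPpow b
      refine ⟨β ^ k * x, ?_⟩
      show ((β ^ k * x : ↥(D.genRing S)) : AddMonoid.End W) v = _
      rw [Subring.coe_mul, hβpow]; rfl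
    · have h1 : ev 1 ∈ ev.range := ⟨1, rfl⟩
      rw [hb, AddSubgroup.mem_bot] at h1
      exact hv h1
  let ε := AddEquiv.ofBijective ev ⟨hevinj, hevsurj⟩
  have hε : ∀ x : ↥(D.genRing S), ε x = x.1 v := fun x => rfl
  set d := Nat.card ↥(D.P : Subgroup H) with hd
  let f : H → ↥(D.genRing S) →+ ↥(D.genRing S) := fun h =>
    (ε.symm.toAddMonoidHom.comp ((D.ρ h : W →+ W).comp ε.toAddMonoidHom))
  have hf : ∀ h x, ε (f h x) = D.ρ h (x.1 v) := fun h x => by
    show ε (ε.symm (D.ρ h (ε x))) = _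
    rw [ε.apply_symm_apply, hε]
  have horb : ∀ h x, ∃ k : ℕ, f h x = β ^ k * x := by
    intro h x
    obtain ⟨b, hb⟩ := D.orb h (x.1 v)
    obtain ⟨k, rfl⟩ := hPpow b
    refine ⟨k, ε.injective ?_⟩
    rw [hf, ← hb, hε, Subring.coe_mul, hβpow]
    rfl
  have hβd : β ^ d = 1 := Subtype.ext (by
    rw [hβpow, pow_card_eq_one', Subgroup.coe_one, map_one]; rfl)
  have hfd : ∀ h x, f h x ^ d = x ^ d := by
    intro h x
    obtain ⟨k, hk⟩ := horb h x
    rw [hk, mul_pow, ← pow_mul, mul_comm k d, pow_mul, hβd, one_pow, one_mul]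
  -- the automorphism induced by `h₁`
  have hσmem : ∀ s ∈ S, D.ρ (h₁ * ((s : ↥(D.P : Subgroup H)) : H) * h₁⁻¹) ∈ D.genRing S := by
    intro s hs
    rw [Set.mem_singleton_iff.1 hs]
    have hm := (mem_normalizer_iff.1 hh₁N (g₀ : H)).1 g₀.2
    obtain ⟨k, hk⟩ := hPpow ⟨_, hm⟩
    rw [show h₁ * (g₀ : H) * h₁⁻¹ = ((g₀ ^ k : ↥(D.P : Subgroup H)) : H) from congrArg Subtype.val hk,
      ← hβpow]
    exact (β ^ k).2
  let σ : ↥(D.genRing S) →+* ↥(D.genRing S) :=
    ((D.conjEndo h₁).comp (D.genRing S).subtype).codRestrict (D.genRing S)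
      fun x => D.conjEndo_mem_genRing hσmem x.2
  have hσ : ∀ x : ↥(D.genRing S), (σ x).1 = D.conjEndo h₁ x.1 := fun x => rfl
  have hfσ : ∀ x, f h₁ x = σ x * f h₁ 1 := by
    intro x
    refine ε.injective ?_
    rw [hf, hε, Subring.coe_mul, hσ]
    show _ = D.conjEndo h₁ x.1 ((f h₁ 1).1 v)
    have e1 : (f h₁ 1).1 v = D.ρ h₁ v := by rw [← hε, hf]; rfl
    rw [e1, conjEndo_apply]
    show _ = D.ρ h₁ (x.1 (D.ρ h₁⁻¹ (D.ρ h₁ v)))
    rw [← D.rho_mul h₁⁻¹, inv_mul_cancel, map_one]
    rfl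
  have hσne : ∃ x, σ x ≠ x := by
    refine ⟨β, fun h => hh₁C (mem_centralizer_iff.2 fun u hu => ?_)⟩
    have h1 : h₁ * (g₀ : H) * h₁⁻¹ = g₀ := by
      refine D.inj ?_
      rw [← conjEndo_rho]
      exact congrArg Subtype.val h
    obtain ⟨k, hk⟩ := hPpow ⟨u, hu⟩
    rw [show u = (g₀ : H) ^ k from congrArg Subtype.val hk]
    have h2 : Commute h₁ (g₀ : H) := mul_inv_eq_iff_eq_mul.1 h1
    exact (h2.pow_right k).eq.symm
  have hσd : ∀ x, σ x ^ d = x ^ d := by
    intro x
    have h1 := hfd h₁ x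
    have h2 := hfd h₁ 1
    rw [one_pow] at h2
    rwa [hfσ x, mul_pow, h2, mul_one] at h1
  -- sizes
  let K : Subfield ↥(D.genRing S) := RingHom.eqLocusField σ (RingHom.id _)
  letI : Fintype K := Fintype.ofFinite _
  haveI : Module.Finite K ↥(D.genRing S) := Module.Finite.of_finite
  set Q := Nat.card K with hQ
  set m := Module.finrank K ↥(D.genRing S) with hm
  have hEQ : Fintype.card ↥(D.genRing S) = Q ^ m := by
    rw [hQ, hm, ← Nat.card_eq_fintype_card]
    exact Module.natCard_eq_pow_finrank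
  obtain ⟨g, hg⟩ : ∃ g : ℕ, Q = q ^ g := by
    haveI : CharP K q := inferInstance
    obtain ⟨g, -, hg⟩ := FiniteField.card K q
    exact ⟨g, by rw [hQ, Nat.card_eq_fintype_card, hg]⟩
  have hQ2 : 2 ≤ Q := Finite.one_lt_card
  have hg0 : 0 < g := by
    rcases g with _ | g
    · rw [pow_zero] at hg; omega
    · omega
  have hm2 : 2 ≤ m := by
    by_contra hlt
    push Not at hlt
    have h1 : Nat.card ↥(D.genRing S) ≤ Nat.card K := by
      rw [Nat.card_eq_fintype_card, hEQ, ← hQ]
      calc Q ^ m ≤ Q ^ 1 := Nat.pow_le_pow_right (by omega) (by omega)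
        _ = Q := pow_one Q
    obtain ⟨x, hx⟩ := hσne
    obtain ⟨y, hy⟩ := (Subtype.val_injective.bijective_of_nat_card_le h1).2 x
    exact hx (hy ▸ y.2)
  set r := ∑ i ∈ Finset.range m, Q ^ i with hr
  -- the units
  let ψ : (↥(D.genRing S))ˣ →* (↥(D.genRing S))ˣ := Units.map σ.toMonoidHom / MonoidHom.id _
  have hker : Nat.card ψ.ker = Q - 1 := by
    rw [hQ, ← Nat.card_units]
    refine Nat.card_congr
      { toFun := fun u => Units.mk0 ⟨(u.1 : ↥(D.genRing S)), ?_⟩
          (fun h => u.1.ne_zero (congrArg Subtype.val h))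
        invFun := fun u => ⟨Units.map K.subtype.toMonoidHom u, ?_⟩
        left_inv := fun u => Subtype.ext (Units.ext rfl)
        right_inv := fun u => Units.ext (Subtype.ext rfl) }
    · have h1 : Units.map σ.toMonoidHom u.1 / u.1 = 1 := MonoidHom.mem_ker.1 u.2
      exact congrArg Units.val (div_eq_one.1 h1)
    · rw [MonoidHom.mem_ker]
      show Units.map σ.toMonoidHom _ / _ = 1
      rw [div_eq_one]
      exact Units.ext (u : K).2
  have hrange : Nat.card ψ.range = r := by
    have h1 := Subgroup.card_mul_index ψ.ker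
    rw [index_ker, hker, Nat.card_units, Nat.card_eq_fintype_card (α := ↥(D.genRing S)), hEQ,
      ← geom_mul_pred Q m (by omega)] at h1
    exact Nat.eq_of_mul_eq_mul_left (by omega) h1
  have hrd : r ∣ d := by
    obtain ⟨⟨w, hw⟩, hgen⟩ := IsCyclic.exists_generator (α := ψ.range)
    rw [← hrange, ← orderOf_eq_card_of_forall_mem_zpowers hgen, ← Subgroup.orderOf_coe]
    refine orderOf_dvd_of_pow_eq_one ?_
    obtain ⟨u, rfl⟩ := hw
    show (Units.map σ.toMonoidHom u / u) ^ d = 1
    rw [div_pow, div_eq_one]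
    refine Units.ext ?_
    simp only [Units.val_pow_eq_pow_val]
    exact hσd u
  have hdm : d ∣ Q ^ m - 1 := by
    have hu : orderOf β ∣ Fintype.card ↥(D.genRing S) - 1 := by
      have hβ0 : β ≠ 0 := fun h => by
        have h1 := D.rho_ne_zero (g₀ : H) hv
        exact h1 (DFunLike.congr_fun (congrArg Subtype.val h) v)
      rw [← Fintype.card_units, ← Nat.card_eq_fintype_card,
        show orderOf β = orderOf (Units.mk0 β hβ0) from (orderOf_units (y := Units.mk0 β hβ0)).symm ▸ rfl]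
      exact orderOf_dvd_natCard _
    rw [← hEQ]
    refine dvd_trans ?_ hu
    rw [hd, ← orderOf_eq_card_of_forall_mem_zpowers hg₀]
    refine orderOf_dvd_of_pow_eq_one (Subtype.ext (D.inj ?_))
    rw [← hβpow, pow_orderOf_eq_one, Subgroup.coe_one, map_one]; rfl
  obtain ⟨a, ha⟩ := D.P.isPGroup'.exists_card_eq
  have hdr : d = r := by
    rw [hd, ha]
    exact eq_geom_of_dvd hp.out hp2 hQ2 hm2 (ha ▸ hd ▸ hrd) (ha ▸ hd ▸ hdm)
  by_cases hex : q = 2 ∧ g = 1
  · -- transitive on the nonzero vectors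
    obtain ⟨hq2, hg1⟩ := hex
    have hQ' : Q = 2 := by rw [hg, hg1, hq2, pow_one]
    have hcard : d = 2 ^ m - 1 := by
      have h1 := geom_mul_pred Q m (by omega)
      rw [← hr, ← hdr, hQ'] at h1
      simpa using h1
    have ha1 : a = 1 := by
      refine prime_of_two_pow_sub_one hp.out hm2 ?_ (hcard.symm.trans ha)
      by_contra h0
      have h4 : 2 ^ 2 ≤ 2 ^ m := Nat.pow_le_pow_right two_pos hm2
      rw [show a = 0 by omega, pow_zero] at ha
      omega
    have hdp : d = p := by rw [hd, ha, ha1, pow_one]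
    have hcardW : Nat.card W = 2 ^ m := by
      rw [← Nat.card_congr ε.toEquiv, Nat.card_eq_fintype_card, hEQ, hQ']
    letI act : MulAction H {w : W // w ≠ 0} :=
      { smul := fun h x => ⟨D.ρ h x.1, D.rho_ne_zero h x.2⟩
        one_smul := fun x => Subtype.ext (by show D.ρ 1 x.1 = x.1; rw [map_one]; rfl)
        mul_smul := fun a b x => Subtype.ext (D.rho_mul a b x.1) }
    have hsmul : ∀ (h : H) (x : {w : W // w ≠ 0}), ((h • x : {w : W // w ≠ 0}) : W) = D.ρ h x.1 :=
      fun h x => rfl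
    haveI : FaithfulSMul H {w : W // w ≠ 0} := ⟨fun {a b} hab => D.inj (AddMonoidHom.ext fun w => by
      by_cases hw : w = 0
      · rw [hw]; exact (map_zero _).trans (map_zero _).symm
      · exact congrArg Subtype.val (hab ⟨w, hw⟩))⟩
    have hX : Nat.card {w : W // w ≠ 0} = p := by
      rw [← hdp, hcard, ← hcardW]
      haveI := Fintype.ofFinite W
      simp [Nat.card_eq_fintype_card, Fintype.card_subtype_compl]
    have hunits : ∀ u : (↥(D.genRing S))ˣ, ∃ k : ℕ, β ^ k = u := by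
      intro u
      have hβ0 : β ≠ 0 := fun h =>
        D.rho_ne_zero (g₀ : H) hv (DFunLike.congr_fun (congrArg Subtype.val h) v)
      have hord : orderOf (Units.mk0 β hβ0) = Nat.card (↥(D.genRing S))ˣ := by
        rw [Nat.card_units, Nat.card_eq_fintype_card, hEQ, hQ', ← hcard, hd,
          ← orderOf_eq_card_of_forall_mem_zpowers hg₀, ← orderOf_units]
        refine Nat.dvd_antisymm (orderOf_dvd_of_pow_eq_one (Subtype.ext ?_))
          (orderOf_dvd_of_pow_eq_one (Subtype.ext (D.inj ?_)))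
        · show ((β ^ orderOf g₀ : ↥(D.genRing S)) : AddMonoid.End W) = _
          rw [hβpow, pow_orderOf_eq_one, Subgroup.coe_one, map_one]; rfl
        · rw [← hβpow]
          show ((β ^ orderOf β : ↥(D.genRing S)) : AddMonoid.End W) = _
          rw [pow_orderOf_eq_one, Subgroup.coe_one, map_one]; rfl
      obtain ⟨k, hk⟩ := mem_powers_iff_mem_zpowers.2
        (show u ∈ zpowers (Units.mk0 β hβ0) by
          rw [(card_eq_iff_eq_top _).1 ((Nat.card_zpowers _).trans hord)]; trivial)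
      exact ⟨k, by rw [← hk]; simp⟩
    haveI : MulAction.IsPretransitive H {w : W // w ≠ 0} := ⟨fun x y => by
      obtain ⟨x', hx'⟩ := ε.surjective x.1
      obtain ⟨y', hy'⟩ := ε.surjective y.1
      have hx0 : x' ≠ 0 := fun h => x.2 (by rw [← hx', h, map_zero])
      have hy0 : y' ≠ 0 := fun h => y.2 (by rw [← hy', h, map_zero])
      obtain ⟨k, hk⟩ := hunits (Units.mk0 y' hy0 * (Units.mk0 x' hx0)⁻¹)
      refine ⟨((g₀ ^ k : ↥(D.P : Subgroup H)) : H), Subtype.ext ?_⟩
      rw [hsmul, ← hy', ← hx', hε, hε, ← hβpow]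
      show ((β ^ k * x' : ↥(D.genRing S)) : AddMonoid.End W) v = _
      rw [hk]
      simp [mul_assoc, inv_mul_cancel₀ hx0]⟩
    obtain ⟨h2t, h5⟩ := Lib.PrimeDegree.burnside hX D.not_isSolvable
    obtain ⟨x, y, hxy⟩ : ∃ x y : {w : W // w ≠ 0}, x ≠ y := by
      haveI : Nontrivial {w : W // w ≠ 0} := Finite.one_lt_card_iff_nontrivial.1 (by omega)
      exact exists_pair_ne _
    obtain ⟨h, hhx, hhy⟩ := MulAction.is_two_pretransitive_iff.1 h2t hxy hxy.symm
    have hodd : ¬ 2 ∣ Nat.card H := hq2 ▸ D.ndvd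
    obtain ⟨j, hj⟩ : Odd (orderOf h) := Nat.not_even_iff_odd.1 fun he =>
      hodd (he.two_dvd.trans (orderOf_dvd_natCard h))
    have hsq : ∀ i : ℕ, (h ^ 2) ^ i • x = x := by
      intro i
      induction i with
      | zero => simp
      | succ i ih => rw [pow_succ, mul_smul, pow_two, mul_smul, hhx, hhy, ← pow_two, ih]
    have h1 := hsq (j + 1)
    rw [← pow_mul, show 2 * (j + 1) = orderOf h + 1 by omega, pow_succ, pow_orderOf_eq_one,
      one_mul, hhx] at h1
    exact hxy h1.symm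
  · -- monomial maps
    have hnorm : ∀ h : H, h * (g₀ : H) * h⁻¹ ∈ (D.P : Subgroup H) := by
      intro h
      have hf1 : f h 1 ≠ 0 := by
        intro h0
        obtain ⟨k, hk⟩ := horb h 1
        have := congrArg (fun z => z ^ d) (hk.symm.trans h0)
        simp only [mul_one, zero_pow (show d ≠ 0 from Nat.card_pos.ne')] at this
        rw [← pow_mul, mul_comm k, pow_mul, hβd, one_pow] at this
        exact one_ne_zero this
      have hsum : ∑ k ∈ Finset.range m, q ^ (g * k) = d := by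
        rw [hdr, hr, hg]
        simp [pow_mul]
      obtain ⟨c, j, hc⟩ := exists_monomial (q := q) (g := g) (m := m) hg0 (by omega) hex
        (by rw [hEQ, hg, ← pow_mul]) (f h) hf1 (by rw [hsum]; exact hfd h)
      have key : ∀ x, f h (β * x) = β ^ q ^ j * f h x := fun x => by
        rw [hc, hc, mul_pow]; ring
      have h2 : D.ρ (h * (g₀ : H)) = D.ρ (((g₀ ^ q ^ j : ↥(D.P : Subgroup H)) : H) * h) := by
        refine AddMonoidHom.ext fun w => ?_
        obtain ⟨x, rfl⟩ := ε.surjective w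
        refine (D.rho_mul _ _ _).trans (Eq.trans ?_ (D.rho_mul _ _ _).symm)
        have h3 := congrArg ε (key x)
        rw [hf, hε, Subring.coe_mul, Subring.coe_mul, hβpow] at h3
        rw [hε]
        refine h3.trans ?_
        show D.ρ _ ((f h x).1 v) = _
        rw [← hε, hf]
      rw [D.inj h2, mul_inv_cancel_right]
      exact SetLike.coe_mem _
    haveI hPn : (D.P : Subgroup H).Normal := by
      refine ⟨fun u hu x => ?_⟩
      obtain ⟨k, hk⟩ := hPpow ⟨u, hu⟩
      rw [show u = (g₀ : H) ^ k from congrArg Subtype.val hk, ← conj_pow]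
      exact pow_mem (hnorm x) k
    let c : H →* MulAut ↥(D.P : Subgroup H) := MulAut.conjNormal
    have hMA : ∀ φ ψ : MulAut ↥(D.P : Subgroup H), φ * ψ = ψ * φ := by
      intro φ ψ
      refine MulEquiv.ext fun b => ?_
      obtain ⟨k, rfl⟩ := hPpow b
      obtain ⟨i, hi⟩ := hPpow (φ g₀)
      obtain ⟨j, hj⟩ := hPpow (ψ g₀)
      simp only [MulAut.mul_apply, map_pow, hi, hj, ← pow_mul, mul_comm i j]
    have hc1 := eq_one_of_solvable_range D.perf c
      (Group.isSolvable_of_comm fun a b => Subtype.ext (hMA a.1 b.1)) h₁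
    refine hh₁C (mem_centralizer_iff.2 fun u hu => ?_)
    have h2 := congrArg Subtype.val (DFunLike.congr_fun hc1 ⟨u, hu⟩)
    rw [MulAut.conjNormal_apply, MulAut.one_apply] at h2
    exact (mul_inv_eq_iff_eq_mul.1 h2).symm

end Cfsg.Agent.Lib.BaerClass.OrbitCase
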