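import Mathlib
import Cfsg.Agent.Lib.BaerClass.Rings
import Cfsg.Agent.Lib.BaerClass.Arith
import Cfsg.Agent.Lib.Core.Nilpotent
import Cfsg.Agent.Lib.PGroup.Critical
import Cfsg.Agent.Lib.Coprime.Generation

/-!
A perfect group having the orbits of a noncyclic Sylow 2-subgroup.
-/

set_option autoImplicit false

namespace Cfsg.Agent.Lib.BaerClass.OrbitCase

open Subgroup

variable {q : ℕ} {H W : Type*} [Group H] [AddCommGroup W] (D : OrbitCase 2 q H W)
  [Finite H] [Finite W]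

include D in
theorem false_of_two [Fact q.Prime] [Nontrivial H] [Nontrivial W]
    (hnc : ¬ IsCyclic (D.P : Subgroup H)) : False := by
  classical
  haveI : Fact (Nat.Prime 2) := ⟨Nat.prime_two⟩
  have hP := D.P.isPGroup'
  haveI := hP.isNilpotent
  set P := ↥(D.P : Subgroup H)
  obtain ⟨B, -, hBmax⟩ := (Set.toFinite {M : Subgroup P | M.Normal ∧ IsMulCommutative M}).exists_le_maximal
    (show (⊥ : Subgroup P) ∈ {M : Subgroup P | M.Normal ∧ IsMulCommutative M} from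
      ⟨inferInstance, inferInstance⟩)
  haveI hBn := hBmax.1.1
  haveI hBc := hBmax.1.2
  have hcent : centralizer (B : Set P) = B :=
    Nilp.centralizer_eq_of_maximal_abelian_normal B fun M hMn hMc hle =>
      le_antisymm (hBmax.2 ⟨hMn, hMc⟩ hle) hle
  -- noncyclic `B`
  by_cases hBcyc : ¬ IsCyclic B
  · obtain ⟨r, hr, a, haB, b, hbB, ha, hb, hb1, hab⟩ := Coprime.exists_pair_of_not_isCyclic hBcyc
    obtain rfl : r = 2 := by
      obtain ⟨k, hk⟩ := IsPGroup.iff_orderOf.1 hP b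
      have h1 : orderOf b = r := haveI := Fact.mk hr; orderOf_eq_prime hb hb1
      have hk0 : k ≠ 0 := by rintro rfl; rw [pow_zero] at hk; exact hr.ne_one (h1.symm.trans hk)
      exact ((Nat.prime_dvd_prime_iff_eq Nat.prime_two hr).1
        (h1 ▸ hk ▸ dvd_pow_self 2 hk0)).symm
    have hcomm : ∀ x ∈ B, ∀ y ∈ B, x * y = y * x := fun x hx y hy =>
      congrArg Subtype.val ((IsMulCommutative.is_comm (M := B)).comm ⟨x, hx⟩ ⟨y, hy⟩)
    let Ω : Subgroup P :=
      { carrier := {x | x ∈ B ∧ x ^ 2 = 1}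
        mul_mem' := fun {x y} hx hy => ⟨mul_mem hx.1 hy.1, by
          rw [(show Commute x y from hcomm x hx.1 y hy.1).mul_pow, hx.2, hy.2, one_mul]⟩
        one_mem' := ⟨one_mem _, one_pow 2⟩
        inv_mem' := fun {x} hx => ⟨inv_mem hx.1, by rw [inv_pow, hx.2, inv_one]⟩ }
    haveI hΩn : Ω.Normal := ⟨fun x hx g => ⟨hBn.conj_mem x hx.1 g, by rw [conj_pow, hx.2]; group⟩⟩
    obtain ⟨z, hzΩ, hzc, hz1⟩ := Critical.exists_center_mem hP (N := Ω)
      (fun h => hb1 (Subgroup.mem_bot.1 (h ▸ (⟨hbB, hb⟩ : b ∈ Ω))))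
    haveI hZn : (zpowers z).Normal := ⟨fun x hx g => by
      obtain ⟨i, rfl⟩ := hx
      show g * z ^ i * g⁻¹ ∈ zpowers z
      rw [← conj_zpow, mem_center_iff.1 hzc g, mul_inv_cancel_right]
      exact zpow_mem (mem_zpowers z) i⟩
    have hnot : ¬ Ω ≤ zpowers z := by
      intro hle
      have ha2 : a ∈ zpowers z := hle ⟨haB, ha⟩
      have hb2 : b ∈ zpowers z := hle ⟨hbB, hb⟩
      have h2 : orderOf z = 2 := orderOf_eq_prime hzΩ.2 hz1
      have hzb : zpowers b = zpowers z := by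
        refine eq_of_le_of_card_ge (zpowers_le.2 hb2) ?_
        rw [Nat.card_zpowers, Nat.card_zpowers, h2, orderOf_eq_prime hb hb1]
      exact hab (hzb ▸ ha2)
    haveI : (Ω.map (QuotientGroup.mk' (zpowers z))).Normal :=
      Subgroup.Normal.map hΩn _ (QuotientGroup.mk'_surjective _)
    obtain ⟨u', hu'Ω, hu'c, hu'1⟩ := Critical.exists_center_mem (hP.to_quotient (zpowers z))
      (N := Ω.map (QuotientGroup.mk' (zpowers z))) (fun h => hnot (by
        rwa [Subgroup.map_eq_bot_iff, QuotientGroup.ker_mk'] at h))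
    obtain ⟨u, hu, rfl⟩ := hu'Ω
    refine D.false_of_pair z u hzc hzΩ.2 hz1 hu.2 (fun h => hu'1 ?_) fun g => ?_
    · exact (QuotientGroup.eq_one_iff u).2 h
    · have h1 : u⁻¹ * (g * u * g⁻¹) ∈ zpowers z := by
        refine QuotientGroup.eq.1 ?_
        show QuotientGroup.mk' (zpowers z) u = QuotientGroup.mk' (zpowers z) (g * u * g⁻¹)
        rw [map_mul, map_mul, map_inv, mem_center_iff.1 hu'c, mul_inv_cancel_right]
      rw [show g * u * g⁻¹ = u * (u⁻¹ * (g * u * g⁻¹)) by group]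
      exact mul_mem (Subgroup.subset_closure (Or.inr rfl))
        ((zpowers_le (g := z)).2 (Subgroup.subset_closure (Or.inl rfl)) h1)
  push Not at hBcyc
  obtain ⟨⟨β, hβB⟩, hβgen⟩ := hBcyc.exists_generator
  have hBz : ∀ x, x ∈ B ↔ x ∈ zpowers β := by
    intro x
    refine ⟨fun hx => ?_, fun hx => (zpowers_le.2 hβB) hx⟩
    obtain ⟨i, hi⟩ := mem_zpowers_iff.1 (hβgen ⟨x, hx⟩)
    exact mem_zpowers_iff.2 ⟨i, congrArg Subtype.val hi⟩
  have hcentβ : ∀ x : P, Commute x β → x ∈ B := by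
    intro x hx
    rw [← hcent, mem_centralizer_iff]
    intro y hy
    obtain ⟨i, rfl⟩ := mem_zpowers_iff.1 ((hBz y).1 hy)
    exact (hx.zpow_right i).eq.symm
  obtain ⟨k, hk⟩ := IsPGroup.iff_orderOf.1 hP β
  have hconj : ∀ x : P, ∃ r : ℤ, x * β * x⁻¹ = β ^ r := fun x => by
    obtain ⟨r, hr⟩ := mem_zpowers_iff.1 ((hBz _).1 (hBn.conj_mem β hβB x))
    exact ⟨r, hr.symm⟩
  have hzero : ∀ i : ℤ, β ^ i = 1 ↔ (2 : ℤ) ^ k ∣ i := fun i => by
    rw [← orderOf_dvd_iff_zpow_eq_one, hk, Nat.cast_pow, Nat.cast_ofNat]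
  have hBtop : B ≠ ⊤ := by
    intro h
    refine hnc ⟨β, fun x => ?_⟩
    exact (hBz x).1 (h ▸ mem_top x)
  have hk2 : 2 ≤ k := by
    by_contra hlt
    push Not at hlt
    refine hBtop ((Subgroup.eq_top_iff' B).2 fun x => hcentβ x ?_)
    obtain ⟨r, hr⟩ := hconj x
    have h2 : β * β = 1 := by
      rw [← pow_two, ← orderOf_dvd_iff_pow_eq_one, hk]
      interval_cases k <;> simp
    rcases Int.even_or_odd r with ⟨c, rfl⟩ | ⟨c, rfl⟩
    · have h1 : x * β * x⁻¹ = 1 := by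
        rw [hr, zpow_add, ← (Commute.refl β).mul_zpow, h2, one_zpow]
      rw [conj_eq_one_iff] at h1
      rw [h1]; exact Commute.one_right x
    · rw [zpow_add_one, two_mul, zpow_add, ← (Commute.refl β).mul_zpow, h2, one_zpow, one_mul] at hr
      exact mul_inv_eq_iff_eq_mul.1 hr
  set i₄ : P := β ^ ((2 : ℤ) ^ (k - 2)) with hi₄
  have hi₄r : ∀ x r, x * β * x⁻¹ = β ^ (r : ℤ) → x * i₄ * x⁻¹ = i₄ ^ r := by
    intro x r hr
    rw [hi₄, ← conj_zpow, hr, ← zpow_mul, ← zpow_mul, mul_comm]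
  have hodd : ∀ (x : P) (r : ℤ), x * β * x⁻¹ = β ^ r → Odd r := by
    intro x r hr
    by_contra he
    rw [Int.not_odd_iff_even] at he
    obtain ⟨c, rfl⟩ := he
    have h1 : β ^ ((2 : ℤ) ^ (k - 1)) = 1 := by
      have h2 : (x * β * x⁻¹) ^ ((2 : ℤ) ^ (k - 1)) = 1 := by
        rw [hr, ← zpow_mul, hzero]
        have : (2 : ℤ) ^ k = 2 * 2 ^ (k - 1) := by
          rw [← pow_succ', show k - 1 + 1 = k by omega]
        rw [this, ← two_mul, mul_assoc]
        exact mul_dvd_mul_left 2 (dvd_mul_left _ _)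
      rwa [conj_zpow, conj_eq_one_iff] at h2
    rw [hzero] at h1
    have h2 : (2 : ℕ) ^ k ∣ 2 ^ (k - 1) := by exact_mod_cast h1
    have h3 := Nat.le_of_dvd (Nat.two_pow_pos _) h2
    have h4 : 2 ^ (k - 1) < 2 ^ k := Nat.pow_lt_pow_right one_lt_two (by omega)
    omega
  have hfour : ∀ r : ℤ, i₄ ^ r = i₄ ↔ (4 : ℤ) ∣ r - 1 := by
    intro r
    rw [← mul_inv_eq_one, hi₄, ← zpow_mul, ← zpow_neg, ← zpow_add, hzero]
    have e : (2 : ℤ) ^ k = 2 ^ (k - 2) * 4 := by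
      rw [show (4 : ℤ) = 2 ^ 2 by norm_num, ← pow_add, show k - 2 + 2 = k by omega]
    rw [e, show (2 : ℤ) ^ (k - 2) * r + -(2 : ℤ) ^ (k - 2) = 2 ^ (k - 2) * (r - 1) by ring,
      mul_dvd_mul_iff_left (pow_ne_zero _ two_ne_zero)]
  set M := centralizer ({i₄} : Set P) with hM
  have hmemM : ∀ x r, x * β * x⁻¹ = β ^ (r : ℤ) → (x ∈ M ↔ (4 : ℤ) ∣ r - 1) := by
    intro x r hr
    rw [← hfour, ← hi₄r x r hr, hM, mem_centralizer_singleton_iff, mul_inv_eq_iff_eq_mul]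
  have hBM : B ≤ M := fun x hx => by
    rw [hM, mem_centralizer_singleton_iff]
    exact congrArg Subtype.val ((IsMulCommutative.is_comm (M := B)).comm ⟨x, hx⟩
      ⟨i₄, (hBz _).2 (zpow_mem (mem_zpowers β) _)⟩)
  -- `M = B`, as otherwise there is a normal four-group
  have hMB : M = B := by
    by_contra hne
    obtain ⟨x₀, hx₀M, hx₀B⟩ := SetLike.exists_of_lt (lt_of_le_of_ne hBM (Ne.symm hne))
    obtain ⟨g, hgM, hgB, hg2⟩ : ∃ g ∈ M, g ∉ B ∧ g ^ 2 ∈ B := by
      have hex : ∃ i, x₀ ^ 2 ^ i ∈ B := by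
        obtain ⟨i, hi⟩ := hP x₀
        exact ⟨i, hi ▸ one_mem B⟩
      obtain ⟨i, hi⟩ : ∃ i, Nat.find hex = i + 1 := ⟨Nat.find hex - 1, by
        have : Nat.find hex ≠ 0 := fun h => hx₀B (by simpa [h] using Nat.find_spec hex)
        omega⟩
      refine ⟨x₀ ^ 2 ^ i, pow_mem hx₀M _, Nat.find_min hex (by omega), ?_⟩
      rw [← pow_mul, ← pow_succ, ← hi]
      exact Nat.find_spec hex
    obtain ⟨r, hr⟩ := hconj g
    obtain ⟨a, ha⟩ := (hmemM g r hr).1 hgM
    obtain ⟨s, hs⟩ := mem_zpowers_iff.1 ((hBz _).1 hg2)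
    have hrr : (2 : ℤ) ^ k ∣ r * r - 1 := by
      rw [← hzero]
      have h1 : β ^ (r * r) = g * (g * β * g⁻¹) * g⁻¹ := by
        rw [zpow_mul, ← hr, conj_zpow, ← hr]
      have h2 : g * (g * β * g⁻¹) * g⁻¹ = β := by
        have hc : Commute (g ^ 2) β := congrArg Subtype.val
          ((IsMulCommutative.is_comm (M := B)).comm ⟨_, hg2⟩ ⟨_, hβB⟩)
        calc g * (g * β * g⁻¹) * g⁻¹ = g ^ 2 * β * (g ^ 2)⁻¹ := by rw [pow_two]; simp [mul_assoc, pow_two, mul_inv_rev]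
          _ = β := by rw [hc.eq, mul_inv_cancel_right]
      rw [zpow_sub_one, h1, h2, mul_inv_cancel]
    set P2 : ℤ := 2 ^ (k - 1) with hP2
    have hkP : (2 : ℤ) ^ k = 2 * P2 := by rw [hP2, ← pow_succ', show k - 1 + 1 = k by omega]
    -- `r + 1 = 2u` with `u` odd, so `r - 1` is an odd multiple of `2^(k-1)`
    set u : ℤ := 2 * a + 1 with hu
    have hru : r + 1 = 2 * u := by omega
    have hcopu : IsCoprime P2 u := IsCoprime.pow_left ⟨-a, 1, by omega⟩
    have hPr : P2 ∣ r - 1 := by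
      refine hcopu.dvd_of_dvd_mul_right (mul_dvd_mul_iff_left (two_ne_zero : (2 : ℤ) ≠ 0) |>.1 ?_)
      rw [← hkP, show 2 * ((r - 1) * u) = r * r - 1 by rw [hu]; linear_combination (-(r - 1)) * hru + 0 * ha]
      exact hrr
    obtain ⟨w, hw⟩ := hPr
    have hwodd : ¬ (2 : ℤ) ∣ w := by
      rintro ⟨c, rfl⟩
      refine hgB (hcentβ g (mul_inv_eq_iff_eq_mul.1 ?_))
      rw [hr, ← zpow_one β, ← zpow_mul, one_mul]
      apply mul_inv_eq_one.1
      rw [← zpow_neg, ← zpow_add, hzero, hkP]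
      exact ⟨c, by linear_combination hw⟩
    -- `g` commutes with its square
    have hs2 : (2 : ℤ) ∣ s := by
      have h1 : β ^ (r * s) = β ^ s := by
        rw [zpow_mul, ← hr, conj_zpow, hs]
        group
      have h2 : (2 : ℤ) ^ k ∣ r * s - s := by
        rw [← hzero, zpow_sub, h1, mul_inv_cancel]
      rw [show r * s - s = P2 * (w * s) by linear_combination s * hw, hkP, mul_comm 2 P2,
        mul_dvd_mul_iff_left (pow_ne_zero _ two_ne_zero)] at h2
      exact (Int.prime_two.dvd_mul.1 h2).resolve_left hwodd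
    obtain ⟨s', rfl⟩ := hs2
    obtain ⟨A, A', hAA⟩ := hcopu
    set t : P := β ^ (-s' * A') * g with ht
    have hsquare : ∀ l : ℤ, (β ^ l * g) ^ 2 = β ^ (l * (r + 1) + 2 * s') := by
      intro l
      rw [pow_two, zpow_add, mul_add, mul_one, zpow_add, hs, pow_two]
      have : g * β ^ l = β ^ (r * l) * g := by
        rw [zpow_mul, ← hr, conj_zpow, inv_mul_cancel_right]
      calc β ^ l * g * (β ^ l * g) = β ^ l * (g * β ^ l) * g := by group
        _ = β ^ l * (β ^ (r * l) * g) * g := by rw [this]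
        _ = β ^ (l * r) * β ^ l * (g * g) := by
          rw [mul_comm l r, ← mul_assoc (β ^ l), ← zpow_add, add_comm, zpow_add]; group
    have ht2 : t ^ 2 = 1 := by
      rw [ht, hsquare, hzero, hru, hkP]
      exact ⟨s' * A, by linear_combination (-2 * s') * hAA⟩
    have htB : t ∉ B := fun h => hgB (by
      have h1 := mul_mem (inv_mem ((hBz _).2 (zpow_mem (mem_zpowers β) (-s' * A')))) h
      rwa [ht, inv_mul_cancel_left] at h1)
    set z : P := β ^ P2 with hz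
    have hzB : z ∈ B := (hBz _).2 (zpow_mem (mem_zpowers β) _)
    have hzp : z ^ 2 = 1 := by
      rw [hz, ← zpow_natCast, ← zpow_mul, hzero, hkP]; exact ⟨1, by push_cast; ring⟩
    have hz1 : z ≠ 1 := by
      rw [hz, Ne, hzero, hkP]
      intro h
      have h1 : (2 : ℤ) ∣ 1 := by
        rwa [mul_comm, ← mul_one P2, mul_assoc, mul_dvd_mul_iff_left (pow_ne_zero _ two_ne_zero), one_mul] at h
      exact absurd h1 (by norm_num)
    have hzc : z ∈ center P := by
      rw [mem_center_iff]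
      intro x
      obtain ⟨rx, hrx⟩ := hconj x
      obtain ⟨c, hc⟩ := hodd x rx hrx
      rw [← mul_inv_eq_iff_eq_mul, hz, ← conj_zpow, hrx, ← zpow_mul]
      apply mul_inv_eq_one.1
      rw [← zpow_neg, ← zpow_add, hzero, hkP]
      exact ⟨c, by rw [hc]; ring⟩
    refine D.false_of_pair z t hzc hzp hz1 ht2 (fun h => htB ((zpowers_le.2 hzB) h)) fun x => ?_
    -- the difference with a conjugate centralises `β`
    have htβ : t * β * t⁻¹ = β ^ r := by
      rw [ht, show β ^ (-s' * A') * g * β * (β ^ (-s' * A') * g)⁻¹ =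
        β ^ (-s' * A') * (g * β * g⁻¹) * (β ^ (-s' * A'))⁻¹ by simp [mul_assoc, pow_two, mul_inv_rev], hr, ← zpow_add,
        ← zpow_neg, ← zpow_add]
      congr 1; ring
    obtain ⟨e, he⟩ := hconj x⁻¹
    rw [inv_inv] at he
    have hcomm' : x * t * x⁻¹ * β * (x * t * x⁻¹)⁻¹ = β ^ r := by
      calc x * t * x⁻¹ * β * (x * t * x⁻¹)⁻¹ = x * (t * (x⁻¹ * β * x) * t⁻¹) * x⁻¹ := by simp [mul_assoc, pow_two, mul_inv_rev]
        _ = x * (β ^ r) ^ e * x⁻¹ := by rw [he, ← conj_zpow, htβ]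
        _ = (x * β ^ e * x⁻¹) ^ r := by rw [← zpow_mul, conj_zpow, ← zpow_mul, mul_comm r e]
        _ = β ^ r := by rw [← he]; congr 1; simp [mul_assoc, pow_two, mul_inv_rev]
    have hd : x * t * x⁻¹ * t⁻¹ ∈ B := by
      refine hcentβ _ (mul_inv_eq_iff_eq_mul.1 ?_)
      rw [show x * t * x⁻¹ * t⁻¹ * β * (x * t * x⁻¹ * t⁻¹)⁻¹ =
        (x * t * x⁻¹) * (t⁻¹ * β * t) * (x * t * x⁻¹)⁻¹ by simp [mul_assoc, pow_two, mul_inv_rev]]
      have htinv : t⁻¹ = t := inv_eq_of_mul_eq_one_left (by rw [← pow_two, ht2])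
      have h3 : t⁻¹ * β * t = β ^ r := by
        calc t⁻¹ * β * t = t * β * t⁻¹ := by rw [htinv]
          _ = β ^ r := htβ
      rw [h3, ← conj_zpow, hcomm', ← zpow_mul]
      conv_rhs => rw [← zpow_one β]
      apply mul_inv_eq_one.1
      rw [← zpow_neg, ← zpow_add, hzero]
      exact hrr
    obtain ⟨l, hl⟩ := mem_zpowers_iff.1 ((hBz _).1 hd)
    have hxt : x * t * x⁻¹ = β ^ l * t := by rw [hl, inv_mul_cancel_right]
    have hl2 : P2 ∣ l := by
      have h1 : (β ^ (l + -s' * A') * g) ^ 2 = 1 := by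
        rw [zpow_add, mul_assoc, ← ht, ← hxt, conj_pow, ht2]; group
      rw [hsquare, hzero, hru, hkP] at h1
      obtain ⟨c, hc⟩ := h1
      have h2 : P2 ∣ l * u := ⟨c - s' * A, by
        refine mul_left_cancel₀ (two_ne_zero : (2 : ℤ) ≠ 0) ?_
        linear_combination hc + 2 * s' * hAA⟩
      exact IsCoprime.dvd_of_dvd_mul_right ⟨A, A', hAA⟩ h2
    obtain ⟨c, rfl⟩ := hl2
    rw [hxt, zpow_mul, ← hz]
    exact mul_mem (zpow_mem (Subgroup.subset_closure (Set.mem_insert _ _)) c) (Subgroup.subset_closure (Set.mem_insert_of_mem _ rfl))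
  -- `B` has index two
  have hprod : ∀ x y, x ∉ B → y ∉ B → x * y ∈ B := by
    intro x y hx hy
    rw [← hMB] at hx hy ⊢
    obtain ⟨rx, hrx⟩ := hconj x
    obtain ⟨ry, hry⟩ := hconj y
    have hxy : x * y * β * (x * y)⁻¹ = β ^ (rx * ry) := by
      rw [show x * y * β * (x * y)⁻¹ = x * (y * β * y⁻¹) * x⁻¹ by simp [mul_assoc, pow_two, mul_inv_rev], hry, ← conj_zpow, hrx,
        ← zpow_mul]
    rw [hmemM _ _ hxy]
    rw [hmemM _ _ hrx] at hx
    rw [hmemM _ _ hry] at hy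
    obtain ⟨c, hc⟩ := hodd x rx hrx
    obtain ⟨d, hd⟩ := hodd y ry hry
    have hc1 : ¬ (2 : ℤ) ∣ c := fun ⟨e, he⟩ => hx ⟨e, by omega⟩
    have hd1 : ¬ (2 : ℤ) ∣ d := fun ⟨e, he⟩ => hy ⟨e, by omega⟩
    obtain ⟨c', rfl⟩ : ∃ c', c = 2 * c' + 1 := ⟨c / 2, by omega⟩
    obtain ⟨d', rfl⟩ : ∃ d', d = 2 * d' + 1 := ⟨d / 2, by omega⟩
    exact ⟨4 * c' * d' + 3 * c' + 3 * d' + 2, by rw [hc, hd]; ring⟩
  obtain ⟨g, hgB⟩ : ∃ g, g ∉ B := by
    by_contra h
    push Not at h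
    exact hBtop ((Subgroup.eq_top_iff' B).2 h)
  have hBi : B.index = 2 := index_eq_two_iff'.2 ⟨g, fun x => by
    by_cases hx : x ∈ B
    · exact Or.inr ⟨hx, fun h => hgB (by simpa using mul_mem h (inv_mem hx))⟩
    · exact Or.inl ⟨hprod g x hgB hx, hx⟩⟩
  have hg2 : g ^ 2 ∈ B := by rw [pow_two]; exact hprod g g hgB hgB
  obtain ⟨r, hr⟩ := hconj g
  have hr4 : ¬ (4 : ℤ) ∣ r - 1 := fun h => hgB (hMB ▸ (hmemM g r hr).2 h)
  -- the field generated by `β`
  set S : Set P := {β} with hSdef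
  have hS : ∀ s ∈ S, ∀ t ∈ S, s * t = t * s := by
    intro s hs t ht
    rw [Set.mem_singleton_iff.1 hs, Set.mem_singleton_iff.1 ht]
  have hβS : D.ρ (β : H) ∈ D.genRing S := D.rho_mem_genRing rfl
  have hpowmem : ∀ x : P, x ∈ B → ∃ n : ℕ, D.ρ (x : H) = D.ρ (β : H) ^ n := by
    intro x hx
    obtain ⟨n, hn⟩ := mem_powers_iff_mem_zpowers.2 ((hBz x).1 hx)
    exact ⟨n, by rw [← hn, Subgroup.coe_pow, map_pow]⟩
  have hSn : ∀ b : P, ∀ s ∈ S, D.ρ ((b : H) * (s : H) * (b : H)⁻¹) ∈ D.genRing S := by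
    intro b s hs
    rw [Set.mem_singleton_iff.1 hs]
    obtain ⟨n, hn⟩ := hpowmem _ (hBn.conj_mem β hβB b)
    have e : (b : H) * (β : H) * (b : H)⁻¹ = ((b * β * b⁻¹ : P) : H) := rfl
    rw [e, hn]
    exact pow_mem hβS n
  haveI := D.genRing_noZeroDivisors hS hSn B (Or.inl hBi) fun n hn s hs => by
    rw [Set.mem_singleton_iff.1 hs]
    exact congrArg Subtype.val ((IsMulCommutative.is_comm (M := B)).comm ⟨n, hn⟩ ⟨β, hβB⟩)
  letI : CommRing ↥(D.genRing S) :=
    { (inferInstance : Ring ↥(D.genRing S)) with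
      mul_comm := fun a b => Subtype.ext (D.genRing_comm hS a.1 a.2 b.1 b.2) }
  obtain ⟨v, hv⟩ := exists_ne (0 : W)
  haveI : Nontrivial ↥(D.genRing S) := ⟨⟨0, 1, fun h =>
    hv (DFunLike.congr_fun (congrArg Subtype.val h) v).symm⟩⟩
  haveI : IsDomain ↥(D.genRing S) := NoZeroDivisors.to_isDomain _
  haveI : Finite (AddMonoid.End W) := Finite.of_injective _ DFunLike.coe_injective
  letI : Fintype ↥(D.genRing S) := Fintype.ofFinite _
  letI : Field ↥(D.genRing S) := Fintype.fieldOfDomain _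
  haveI : CharP ↥(D.genRing S) q :=
    (CharP.charP_iff_prime_eq_zero (Fact.out : q.Prime)).2
      (Subtype.ext (by simpa using D.natCast_eq_zero))
  let b : ↥(D.genRing S) := ⟨D.ρ (β : H), hβS⟩
  let σ : ↥(D.genRing S) →+* ↥(D.genRing S) :=
    ((D.conjEndo (g : H)).comp (D.genRing S).subtype).codRestrict (D.genRing S)
      fun x => D.conjEndo_mem_genRing (fun s hs => hSn g s hs) x.2
  have hσ : ∀ x : ↥(D.genRing S), (σ x).1 = D.conjEndo (g : H) x.1 := fun x => rfl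
  have hord : orderOf b = 2 ^ k := by
    rw [← hk]
    refine orderOf_eq_orderOf_iff.2 fun n => ?_
    constructor
    · intro h
      refine Subtype.ext (D.inj ?_)
      rw [Subgroup.coe_pow, map_pow, Subgroup.coe_one, map_one]
      exact congrArg Subtype.val h
    · intro h
      refine Subtype.ext ?_
      show D.ρ (β : H) ^ n = 1
      rw [← map_pow, ← Subgroup.coe_pow, h, Subgroup.coe_one, map_one]
  have hb0 : b ≠ 0 := fun h => D.rho_ne_zero (β : H) hv (DFunLike.congr_fun (congrArg Subtype.val h) v)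
  obtain ⟨rn, hrn, hrn4⟩ : ∃ rn : ℕ, σ b = b ^ rn ∧ rn % 4 = 3 := by
    obtain ⟨rn, hrn⟩ := mem_powers_iff_mem_zpowers.2 ((hBz _).1 (hBn.conj_mem β hβB g))
    have hrn' : g * β * g⁻¹ = β ^ (rn : ℤ) := by rw [zpow_natCast]; exact hrn.symm
    refine ⟨rn, Subtype.ext ?_, ?_⟩
    · rw [hσ]
      show D.conjEndo (g : H) (D.ρ (β : H)) = D.ρ (β : H) ^ rn
      rw [conjEndo_rho, ← map_pow]
      exact congrArg D.ρ (congrArg Subtype.val hrn.symm)
    · have h4 : ¬ (4 : ℤ) ∣ (rn : ℤ) - 1 := fun h => hgB (hMB ▸ (hmemM g _ hrn').2 h)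
      obtain ⟨c, hc⟩ := hodd g _ hrn'
      omega
  have hσne : σ b ≠ b := by
    intro h
    refine hgB (hcentβ g (mul_inv_eq_iff_eq_mul.1 (Subtype.ext (D.inj ?_))))
    have := congrArg Subtype.val h
    rw [hσ] at this
    show D.ρ ((g : H) * (β : H) * (g : H)⁻¹) = D.ρ (β : H)
    rwa [← conjEndo_rho]
  have hσσ : σ (σ b) = b := by
    refine Subtype.ext ?_
    rw [hσ, hσ]
    show D.conjEndo (g : H) (D.conjEndo (g : H) (D.ρ (β : H))) = D.ρ (β : H)
    rw [← conjEndo_mul, conjEndo_rho]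
    refine congrArg D.ρ (congrArg Subtype.val (show g * g * β * (g * g)⁻¹ = β from ?_))
    rw [mul_inv_eq_iff_eq_mul]
    exact congrArg Subtype.val ((IsMulCommutative.is_comm (M := B)).comm ⟨g * g, hprod g g hgB hgB⟩ ⟨β, hβB⟩)
  let K : Subfield ↥(D.genRing S) := RingHom.eqLocusField σ (RingHom.id _)
  letI : Fintype K := Fintype.ofFinite _
  set Q := Nat.card K with hQ
  have hKmem : ∀ x, x ∈ K ↔ σ x = x := fun x => Iff.rfl
  have hbK : b ∉ K := fun h => hσne ((hKmem b).1 h)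
  obtain ⟨n, hn⟩ : ∃ n : ℕ, Q = q ^ n := by
    obtain ⟨n, -, hn⟩ := FiniteField.card K q
    exact ⟨n, by rw [hQ, Nat.card_eq_fintype_card, hn]⟩
  have hQ2 : 2 ≤ Q := Finite.one_lt_card
  -- the fixed points of the `Q`-th power map
  have hroots : ∀ {N : ℕ}, 2 ≤ N → ∀ U : Finset ↥(D.genRing S), (∀ x ∈ U, x ^ N = x) → U.card ≤ N := by
    intro N hN U hU
    refine le_trans (Finset.card_le_card (t := (Polynomial.X ^ N - Polynomial.X :
      Polynomial ↥(D.genRing S)).roots.toFinset) fun x hx => ?_)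
      ((Multiset.toFinset_card_le _).trans ((Polynomial.card_roots' _).trans
        (FiniteField.X_pow_card_sub_X_natDegree_eq _ hN).le))
    rw [Multiset.mem_toFinset, Polynomial.mem_roots (FiniteField.X_pow_card_sub_X_ne_zero _ hN)]
    simp [hU x hx]
  have hKpow : ∀ x, x ∈ K → x ^ Q = x := by
    intro x hx
    have := congrArg Subtype.val (FiniteField.pow_card (⟨x, hx⟩ : K))
    rwa [SubmonoidClass.coe_pow, ← Nat.card_eq_fintype_card] at this
  have hKiff : ∀ x, x ^ Q = x → x ∈ K := by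
    intro x hx
    by_contra hxK
    have h1 := hroots hQ2 (insert x (Finset.univ.map ⟨Subtype.val, Subtype.val_injective⟩ : Finset _))
      fun y hy => by
        rcases Finset.mem_insert.1 hy with rfl | hy
        · exact hx
        · obtain ⟨z, -, rfl⟩ := Finset.mem_map.1 hy
          exact hKpow _ z.2
    rw [Finset.card_insert_of_notMem (by
      intro h
      obtain ⟨z, -, rfl⟩ := Finset.mem_map.1 h
      exact hxK z.2), Finset.card_map, Finset.card_univ, ← Nat.card_eq_fintype_card, ← hQ] at h1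
    omega
  set tr := b + σ b with htr
  set nm := b * σ b with hnm
  have htrK : tr ∈ K := by rw [hKmem, htr, map_add, hσσ, add_comm]
  have hnmK : nm ∈ K := by rw [hKmem, hnm, map_mul, hσσ, mul_comm]
  have hσQ : σ b = b ^ Q := by
    have hadd : ∀ x y : ↥(D.genRing S), (x + y) ^ Q = x ^ Q + y ^ Q := fun x y => by
      rw [hn]; exact add_pow_char_pow x y q n
    have h0 : (b ^ Q - b) * (b ^ Q - σ b) = 0 := by
      have h1 : b * b + nm = tr * b := by rw [htr, hnm]; ring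
      have h2 : (b ^ Q) * (b ^ Q) + nm = tr * b ^ Q := by
        have h3 := congrArg (fun x => x ^ Q) h1
        simp only [hadd, mul_pow] at h3
        rwa [hKpow nm hnmK, hKpow tr htrK] at h3
      calc (b ^ Q - b) * (b ^ Q - σ b) = b ^ Q * b ^ Q + nm - tr * b ^ Q := by rw [htr, hnm]; ring
        _ = 0 := by rw [h2, sub_self]
    rcases mul_eq_zero.1 h0 with h | h
    · exact absurd (hKiff b (sub_eq_zero.1 h)) hbK
    · exact (sub_eq_zero.1 h).symm
  have hmod : Q ≡ rn [MOD 2 ^ k] := by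
    rw [← hord]
    refine (IsOfFinOrder.pow_eq_pow_iff_modEq ?_).1 (hσQ.symm.trans hrn)
    exact orderOf_pos_iff.1 (by rw [hord]; positivity)
  have hQ4 : Q % 4 = 3 := by
    have := hmod.of_dvd (show 4 ∣ 2 ^ k from pow_dvd_pow 2 hk2)
    rw [Nat.ModEq] at this
    omega
  have hQQ : b ^ (Q * Q) = b := by
    rw [pow_mul, ← hσQ, ← map_pow σ, ← hσQ, hσσ]
  have hkQ : 2 ^ k ∣ Q * Q - 1 := by
    have h1 : b ^ (Q * Q) = b ^ 1 := by rw [hQQ, pow_one]
    have h2 : Q * Q ≡ 1 [MOD 2 ^ k] := by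
      rw [← hord]
      exact (IsOfFinOrder.pow_eq_pow_iff_modEq (orderOf_pos_iff.1 (by rw [hord]; positivity))).1 h1
    exact (Nat.modEq_iff_dvd' (by nlinarith)).1 h2.symm
  have hnodd : Odd n := by
    by_contra hne
    rw [Nat.not_odd_iff_even] at hne
    obtain ⟨c, rfl⟩ := hne
    rw [hn, pow_add, Nat.mul_mod] at hQ4
    have : q ^ c % 4 < 4 := Nat.mod_lt _ (by norm_num)
    interval_cases h : q ^ c % 4 <;> simp at hQ4
  have hkq : 2 ^ k ∣ q ^ 2 - 1 := by
    have h1 : (q ^ 2 - 1) * (∑ i ∈ Finset.range n, (q ^ 2) ^ i) = Q * Q - 1 := by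
      rw [geom_mul_pred _ _ (Nat.one_le_pow _ _ (Fact.out : q.Prime).pos), hn, ← pow_mul, ← pow_add,
        two_mul]
    rw [← h1] at hkQ
    refine Nat.Coprime.dvd_of_dvd_mul_right ?_ hkQ
    refine Nat.Coprime.pow_left k (Nat.prime_two.coprime_iff_not_dvd.2 fun h => ?_)
    have hq2 : q % 2 = 1 := by
      rcases Nat.mod_two_eq_zero_or_one q with h' | h'
      · exfalso
        have hdvd : 2 ∣ q ^ n := dvd_pow (Nat.dvd_of_mod_eq_zero h') (by rcases hnodd with ⟨c, rfl⟩; omega)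
        rw [← hn] at hdvd
        omega
      · exact h'
    have : (∑ i ∈ Finset.range n, (q ^ 2) ^ i) % 2 = 1 := by
      rw [Finset.sum_nat_mod]
      simp [Nat.pow_mod, hq2, Nat.odd_iff.1 hnodd]
    omega
  have hq2le : 2 ≤ q ^ 2 := by
    have := (Fact.out : q.Prime).two_le
    nlinarith
  have hbq : b ^ q ^ 2 = b := by
    refine ((IsOfFinOrder.pow_eq_pow_iff_modEq (orderOf_pos_iff.1 (by rw [hord]; positivity))).2 ?_).trans (pow_one b)
    rw [hord]
    exact ((Nat.modEq_iff_dvd' (by omega)).2 hkq).symm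
  have hfix : ∀ x : ↥(D.genRing S), x ^ q ^ 2 = x ∧ σ x = x ^ Q := by
    rintro ⟨x, hx⟩
    induction hx using Subring.closure_induction with
    | mem u hu =>
      obtain ⟨s, hs, rfl⟩ := hu
      obtain rfl := Set.mem_singleton_iff.1 hs
      exact ⟨hbq, hσQ⟩
    | zero => exact ⟨zero_pow (by omega), by rw [show (⟨0, _⟩ : ↥(D.genRing S)) = 0 from rfl, map_zero, zero_pow (by omega)]⟩
    | one => exact ⟨one_pow _, (map_one σ).trans (one_pow Q).symm⟩
    | add u w hu hw ihu ihw =>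
      refine ⟨?_, ?_⟩
      · show ((⟨u, hu⟩ : ↥(D.genRing S)) + ⟨w, hw⟩) ^ q ^ 2 = _
        rw [add_pow_char_pow, ihu.1, ihw.1]; rfl
      · show σ ((⟨u, hu⟩ : ↥(D.genRing S)) + ⟨w, hw⟩) = ((⟨u, hu⟩ : ↥(D.genRing S)) + ⟨w, hw⟩) ^ Q
        rw [map_add, ihu.2, ihw.2, hn, add_pow_char_pow]
    | neg u hu ihu =>
      have hoddq : Odd q := by
        refine (Fact.out : q.Prime).odd_of_ne_two fun h => ?_
        rw [hn, h] at hQ4
        have : 2 ∣ 2 ^ n := dvd_pow_self 2 (by rintro rfl; simp at hQ4)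
        omega
      refine ⟨?_, ?_⟩
      · show (-(⟨u, hu⟩ : ↥(D.genRing S))) ^ q ^ 2 = _
        rw [hoddq.pow.neg_pow, ihu.1]; rfl
      · show σ (-(⟨u, hu⟩ : ↥(D.genRing S))) = (-(⟨u, hu⟩ : ↥(D.genRing S))) ^ Q
        rw [map_neg, ihu.2, (show Odd Q from Nat.odd_iff.2 (by omega)).neg_pow]
    | mul u w hu hw ihu ihw =>
      refine ⟨?_, ?_⟩
      · show ((⟨u, hu⟩ : ↥(D.genRing S)) * ⟨w, hw⟩) ^ q ^ 2 = _
        rw [mul_pow, ihu.1, ihw.1]; rfl
      · show σ ((⟨u, hu⟩ : ↥(D.genRing S)) * ⟨w, hw⟩) = ((⟨u, hu⟩ : ↥(D.genRing S)) * ⟨w, hw⟩) ^ Q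
        rw [map_mul, ihu.2, ihw.2, mul_pow]
  have hcardE : Nat.card ↥(D.genRing S) ≤ q ^ 2 := by
    rw [Nat.card_eq_fintype_card]
    exact hroots hq2le Finset.univ fun x _ => (hfix x).1
  have hEQ : Nat.card ↥(D.genRing S) = Q * Q := by
    haveI : Module.Finite K ↥(D.genRing S) := Module.Finite.of_finite
    have h1 : Nat.card ↥(D.genRing S) = Q ^ Module.finrank K ↥(D.genRing S) :=
      Module.natCard_eq_pow_finrank
    have h2 : Nat.card ↥(D.genRing S) ≤ Q * Q := by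
      rw [Nat.card_eq_fintype_card]
      refine hroots (by nlinarith) Finset.univ fun x _ => ?_
      have hg2fix : ∀ y : ↥(D.genRing S), σ (σ y) = y := by
        intro y
        refine Subtype.ext ?_
        rw [hσ, hσ, ← conjEndo_mul]
        refine D.conjEndo_eq_self_genRing (fun s hs => ?_) y.2
        obtain rfl := Set.mem_singleton_iff.1 hs
        rw [mul_inv_eq_iff_eq_mul]
        exact congrArg Subtype.val (congrArg Subtype.val ((IsMulCommutative.is_comm (M := B)).comm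
          ⟨g * g, hprod g g hgB hgB⟩ ⟨s, hβB⟩))
      rw [pow_mul, ← (hfix x).2, ← map_pow σ, ← (hfix x).2, hg2fix]
    have h3 : Q < Nat.card ↥(D.genRing S) := by
      refine lt_of_le_of_ne (Nat.card_le_card_of_injective _ Subtype.val_injective) fun he => hbK ?_
      obtain ⟨z, hz⟩ := (Subtype.val_injective.bijective_of_nat_card_le he.ge).2 b
      exact hz ▸ z.2
    rw [h1] at h2 h3 ⊢
    rw [← pow_two] at h2 ⊢
    have h4 := (Nat.pow_le_pow_iff_right hQ2).1 h2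
    have h5 : 1 < Module.finrank K ↥(D.genRing S) :=
      (Nat.pow_lt_pow_iff_right hQ2).1 (by rwa [pow_one])
    rw [show Module.finrank K ↥(D.genRing S) = 2 by omega]
  -- an invariant line
  have hb'mem : D.ρ ((g : H) * (g : H)) ∈ D.genRing S := by
    obtain ⟨i, hi⟩ := hpowmem (g ^ 2) hg2
    rw [show (g : H) * (g : H) = ((g ^ 2 : P) : H) by rw [pow_two]; rfl, hi]
    exact pow_mem hβS i
  let b' : ↥(D.genRing S) := ⟨_, hb'mem⟩
  have hb'0 : b' ≠ 0 := fun h => D.rho_ne_zero _ hv (DFunLike.congr_fun (congrArg Subtype.val h) v)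
  have hb'K : σ b' = b' := by
    refine Subtype.ext ?_
    rw [hσ]
    show D.conjEndo (g : H) (D.ρ ((g : H) * g)) = D.ρ ((g : H) * g)
    rw [conjEndo_rho]
    congr 1
    group
  obtain ⟨α, hα⟩ : ∃ α : ↥(D.genRing S), α * σ α = b' := by
    obtain ⟨γ, hγ⟩ := IsCyclic.exists_generator (α := (↥(D.genRing S))ˣ)
    have hγo : orderOf γ = Q * Q - 1 := by
      rw [orderOf_eq_card_of_forall_mem_zpowers hγ, Nat.card_units, hEQ]
    obtain ⟨l, hl⟩ := mem_powers_iff_mem_zpowers.2 (hγ (Units.mk0 b' hb'0))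
    have h1 : b' ^ Q = b' := by rw [← (hfix b').2, hb'K]
    have h2 : γ ^ (l * (Q - 1)) = 1 := by
      rw [pow_mul, show γ ^ l = Units.mk0 b' hb'0 from hl]
      refine Units.ext ?_
      rw [Units.val_pow_eq_pow_val, Units.val_mk0, Units.val_one]
      refine mul_right_cancel₀ hb'0 ?_
      rw [← pow_succ, show Q - 1 + 1 = Q by omega, h1, one_mul]
    have h3 := orderOf_dvd_of_pow_eq_one h2
    rw [hγo, show Q * Q - 1 = (Q + 1) * (Q - 1) by rw [← Nat.sq_sub_sq Q 1 |>.trans rfl]; simp [pow_two]] at h3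
    obtain ⟨c, hc⟩ := Nat.dvd_of_mul_dvd_mul_right (by omega) h3
    refine ⟨((γ ^ c : (↥(D.genRing S))ˣ) : ↥(D.genRing S)), ?_⟩
    rw [(hfix _).2, ← pow_succ', ← Units.val_pow_eq_pow_val, ← pow_mul, mul_comm c, ← hc,
      show γ ^ l = Units.mk0 b' hb'0 from hl, Units.val_mk0]
  obtain ⟨w, x₀, hw0, hgw⟩ : ∃ (w : W) (x₀ : ↥(D.genRing S)), w ≠ 0 ∧ D.ρ (g : H) w = x₀.1 w := by
    by_cases hdep : ∃ x : ↥(D.genRing S), D.ρ (g : H) v = x.1 v
    · obtain ⟨x, hx⟩ := hdep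
      exact ⟨v, x, hv, hx⟩
    refine ⟨α.1 v + D.ρ (g : H) v, σ α, fun h0 => hdep ⟨-α, ?_⟩, ?_⟩
    · rw [show ((-α : ↥(D.genRing S)) : AddMonoid.End W) v = -(α.1 v) from rfl]
      exact eq_neg_of_add_eq_zero_right h0
    · have e1 : D.ρ (g : H) (α.1 v) = (σ α).1 (D.ρ (g : H) v) := by
        rw [hσ, conjEndo_apply]
        show _ = D.ρ (g : H) (α.1 (D.ρ (g : H)⁻¹ (D.ρ (g : H) v)))
        rw [← D.rho_mul (g : H)⁻¹, inv_mul_cancel, map_one]
        rfl
      have e2 : D.ρ (g : H) (D.ρ (g : H) v) = (σ α).1 (α.1 v) := by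
        rw [← D.rho_mul]
        show b'.1 v = _
        rw [← hα, mul_comm α]
        rfl
      rw [map_add, e1, e2, map_add, add_comm]
  let ev : ↥(D.genRing S) →+ W :=
    { toFun := fun x => x.1 w
      map_zero' := rfl
      map_add' := fun x y => rfl }
  have hsurj : Function.Surjective ev := by
    rw [← AddMonoidHom.range_eq_top]
    refine (D.irr _ fun x u hu => ?_).resolve_left fun hb => ?_
    · obtain ⟨y, rfl⟩ := hu
      by_cases hx : x ∈ B
      · obtain ⟨i, hi⟩ := hpowmem x hx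
        refine ⟨b ^ i * y, ?_⟩
        show ((b ^ i * y : ↥(D.genRing S)) : AddMonoid.End W) w = D.ρ (x : H) (y.1 w)
        rw [hi]; rfl
      · obtain ⟨i, hi⟩ := hpowmem (x * g) (hprod x g hx hgB)
        obtain ⟨j, hj⟩ := hpowmem (g ^ 2)⁻¹ (inv_mem hg2)
        refine ⟨b ^ i * b ^ j * σ y * x₀, ?_⟩
        have hxe : (x : H) = ((x * g : P) : H) * (((g ^ 2)⁻¹ : P) : H) * (g : H) := by
          rw [← Subgroup.coe_mul, ← Subgroup.coe_mul]
          congr 1
          group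
        show ((b ^ i * b ^ j * σ y * x₀ : ↥(D.genRing S)) : AddMonoid.End W) w = D.ρ (x : H) (y.1 w)
        rw [hxe, D.rho_mul, D.rho_mul, hi, hj]
        show (D.ρ (β : H) ^ i) ((D.ρ (β : H) ^ j) ((σ y).1 (x₀.1 w))) = _
        rw [← hgw, hσ, conjEndo_apply]
        show (D.ρ (β : H) ^ i) ((D.ρ (β : H) ^ j) (D.ρ (g : H) (y.1 (D.ρ (g : H)⁻¹ (D.ρ (g : H) w))))) = _
        rw [← D.rho_mul (g : H)⁻¹, inv_mul_cancel, map_one]
        rfl
    · have h1 : ev 1 ∈ ev.range := ⟨1, rfl⟩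
      rw [hb, AddSubgroup.mem_bot] at h1
      exact hw0 h1
  exact D.false_of_small ((Nat.card_le_card_of_surjective ev hsurj).trans hcardE)

end Cfsg.Agent.Lib.BaerClass.OrbitCase
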