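import Mathlib
import Cfsg.Agent.Lib.BaerClass.CyclicCase
import Cfsg.Agent.Lib.BaerClass.TwoCase
import Cfsg.Agent.Lib.AbelianCoprime.Maschke
import Cfsg.Agent.Lib.ClassSize.Counting

/-!
A group acting faithfully and coprimely on an abelian group with all orbits of `p`-power length is
solvable.
-/

set_option autoImplicit false

namespace Cfsg.Agent.Lib.BaerClass

open Subgroup

universe u

/-- The stabiliser of a point under an action by automorphisms. -/
def fixer {H V : Type*} [Group H] [CommGroup V] (φ : H →* MulAut V) (w : V) : Subgroup H where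
  carrier := {h | φ h w = w}
  mul_mem' {a b} ha hb := by
    show φ (a * b) w = w
    rw [map_mul, MulAut.mul_apply, hb, ha]
  one_mem' := by simp
  inv_mem' {a} ha := by
    show φ a⁻¹ w = w
    rw [map_inv, MulAut.inv_apply, MulEquiv.symm_apply_eq]
    exact ha.symm

theorem mem_fixer {H V : Type*} [Group H] [CommGroup V] (φ : H →* MulAut V) {w : V} {h : H} :
    h ∈ fixer φ w ↔ φ h w = w := Iff.rfl

/-- The restriction of the action to an invariant subgroup. -/
def restrictAut {H V : Type*} [Group H] [CommGroup V] (φ : H →* MulAut V) (U : Subgroup V)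
    (hU : ∀ h, ∀ w ∈ U, φ h w ∈ U) : H →* MulAut U :=
  MonoidHom.mk' (fun h =>
    { toFun := fun w => ⟨φ h w.1, hU h _ w.2⟩
      invFun := fun w => ⟨φ h⁻¹ w.1, hU _ _ w.2⟩
      left_inv := fun w => Subtype.ext (by
        show φ h⁻¹ (φ h w.1) = w.1
        rw [← MulAut.mul_apply, ← map_mul, inv_mul_cancel, map_one]; rfl)
      right_inv := fun w => Subtype.ext (by
        show φ h (φ h⁻¹ w.1) = w.1
        rw [← MulAut.mul_apply, ← map_mul, mul_inv_cancel, map_one]; rfl)
      map_mul' := fun a b => Subtype.ext (map_mul (φ h) a.1 b.1) })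
    fun a b => MulEquiv.ext fun w => Subtype.ext (by
      show φ (a * b) w.1 = φ a (φ b w.1)
      rw [map_mul]; rfl)

theorem coe_restrictAut {H V : Type*} [Group H] [CommGroup V] (φ : H →* MulAut V) (U : Subgroup V)
    (hU : ∀ h, ∀ w ∈ U, φ h w ∈ U) (h : H) (w : U) :
    ((restrictAut φ U hU h w : U) : V) = φ h w.1 := rfl

theorem index_comap_dvd {G H : Type*} [Group G] [Finite G] [Group H] (f : G →* H) (K : Subgroup G) :
    (K.map f.rangeRestrict).index ∣ K.index :=
  index_map_dvd K f.rangeRestrict_surjective

theorem relIndex_dvd_index_of_normal_right {G : Type*} [Group G] [Finite G] (N F : Subgroup G)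
    [N.Normal] : F.relIndex N ∣ F.index := by
  have h1 : N.relIndex (F ⊔ N) = N.relIndex F := relIndex_sup_right F N
  have e1 := card_mul_index (N.subgroupOf F)
  have e2 := card_mul_index (F.subgroupOf N)
  have e3 := card_mul_index (N.subgroupOf (F ⊔ N))
  have e4 := card_mul_index (F.subgroupOf (F ⊔ N))
  rw [Nat.card_congr (subgroupOfEquivOfLe (le_sup_right : N ≤ F ⊔ N)).toEquiv] at e3
  rw [Nat.card_congr (subgroupOfEquivOfLe (le_sup_left : F ≤ F ⊔ N)).toEquiv] at e4
  have c1 : Nat.card (N.subgroupOf F) = Nat.card (F.subgroupOf N) := by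
    rw [← card_map_of_injective F.subtype_injective, ← card_map_of_injective N.subtype_injective,
      subgroupOf_map_subtype, subgroupOf_map_subtype, inf_comm]
  change _ * N.relIndex F = _ at e1
  change _ * F.relIndex N = _ at e2
  change _ * N.relIndex (F ⊔ N) = _ at e3
  change _ * F.relIndex (F ⊔ N) = _ at e4
  have h2 : F.relIndex (F ⊔ N) = F.relIndex N := by
    refine Nat.eq_of_mul_eq_mul_left (Nat.card_pos (α := F)) ?_
    rw [e4, ← e3, h1, ← e2, ← e1, c1]
    ring
  rw [← h2]
  exact relIndex_dvd_index_of_le le_sup_left

theorem isSolvable_of_orbit_prime_pow {p q : ℕ} (hp : p.Prime) (hq : q.Prime) :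
    ∀ (N : ℕ) {H : Type u} {V : Type u} [Group H] [Finite H] [CommGroup V] [Finite V],
      Nat.card H * Nat.card V = N → IsPGroup q V → ¬ q ∣ Nat.card H →
      ∀ (φ : H →* MulAut V), Function.Injective φ →
        (∀ w : V, ∃ a : ℕ, (fixer φ w).index = p ^ a) → Group.IsSolvable H := by
  haveI := Fact.mk hp
  haveI := Fact.mk hq
  intro N
  induction N using Nat.strong_induction_on with
  | _ N ih =>
    intro H V _ _ _ _ hN hV hqH φ hinj horb
    classical
    by_contra hns
    haveI : Nontrivial H := by
      rw [← not_subsingleton_iff_nontrivial]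
      intro hs
      exact hns (Group.isSolvable_of_comm fun a b => Subsingleton.elim _ _)
    -- invariant subgroups
    have hsub : ∀ U : Subgroup V, U ≠ ⊤ → ∀ hU : ∀ h, ∀ w ∈ U, φ h w ∈ U,
        Group.IsSolvable (restrictAut φ U hU).range := by
      intro U hUt hU
      set ψ := restrictAut φ U hU
      have hcardU : Nat.card U < Nat.card V := by
        refine lt_of_le_of_ne (Nat.card_le_card_of_injective _ U.subtype_injective) fun he => hUt ?_
        exact (card_eq_iff_eq_top U).1 he
      have hcardR : Nat.card ψ.range ≤ Nat.card H :=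
        Nat.card_le_card_of_surjective _ ψ.rangeRestrict_surjective
      refine ih (Nat.card ψ.range * Nat.card U) (hN ▸ Nat.lt_of_le_of_lt (Nat.mul_le_mul_right _ hcardR)
        (Nat.mul_lt_mul_of_pos_left hcardU Nat.card_pos)) rfl (hV.to_subgroup U)
        (fun hd => hqH (hd.trans (card_range_dvd ψ))) ψ.range.subtype ψ.range.subtype_injective
        fun w => ?_
      obtain ⟨a, ha⟩ := horb (w : V)
      have hle : (fixer φ (w : V)).map ψ.rangeRestrict ≤ fixer ψ.range.subtype w := by
        rintro _ ⟨h, hh, rfl⟩
        exact Subtype.ext hh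
      obtain ⟨b, -, hb⟩ := (Nat.dvd_prime_pow hp).1 (ha ▸
        (index_dvd_of_le hle).trans (index_comap_dvd ψ (fixer φ (w : V))))
      exact ⟨b, hb⟩
    -- `H` is perfect
    have hperf : commutator H = ⊤ := by
      by_contra hne
      refine hns ?_
      have hlt : Nat.card (commutator H) < Nat.card H := by
        refine lt_of_le_of_ne (Nat.card_le_card_of_injective _ (commutator H).subtype_injective) fun he => hne ?_
        exact (card_eq_iff_eq_top _).1 he
      haveI : Group.IsSolvable (commutator H) :=
        ih (Nat.card (commutator H) * Nat.card V) (hN ▸ Nat.mul_lt_mul_of_pos_right hlt Nat.card_pos)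
          rfl hV (fun hd => hqH (hd.trans (card_subgroup_dvd_card _)))
          (φ.comp (commutator H).subtype) (hinj.comp (commutator H).subtype_injective) fun w => by
            obtain ⟨a, ha⟩ := horb w
            have e : fixer (φ.comp (commutator H).subtype) w = (fixer φ w).subgroupOf (commutator H) := rfl
            rw [e]
            obtain ⟨b, -, hb⟩ := (Nat.dvd_prime_pow hp).1 ((show (fixer φ w).relIndex (commutator H) ∣ p ^ a from
              ha ▸ relIndex_dvd_index_of_normal_right (commutator H) (fixer φ w)))
            exact ⟨b, hb⟩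
      haveI : Group.IsSolvable (H ⧸ commutator H) :=
        Group.isSolvable_of_comm fun a b => by
          induction a using QuotientGroup.induction_on with
          | _ x =>
            induction b using QuotientGroup.induction_on with
            | _ y =>
              rw [← QuotientGroup.mk_mul, ← QuotientGroup.mk_mul, QuotientGroup.eq]
              have := commutator_mem_commutator (H₁ := (⊤ : Subgroup H)) (H₂ := ⊤)
                (mem_top y⁻¹) (mem_top x⁻¹)
              rw [← commutator_def] at this
              convert this using 1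
              group
      exact solvable_of_ker_le_range (commutator H).subtype (QuotientGroup.mk' (commutator H))
        (by simp)
    -- exponent `q`
    have hexp : ∀ w : V, w ^ q = 1 := by
      by_contra hne
      refine hns ?_
      set U := (powMonoidHom q : V →* V).ker with hUdef
      have hU : ∀ h, ∀ w ∈ U, φ h w ∈ U := fun h w hw => by
        rw [hUdef, MonoidHom.mem_ker, powMonoidHom_apply] at hw ⊢
        rw [← map_pow, hw, map_one]
      have hUt : U ≠ ⊤ := fun h => hne fun w => by
        have : w ∈ U := h ▸ mem_top w
        exact this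
      haveI := hsub U hUt hU
      refine solvable_of_solvable_injective (f := (restrictAut φ U hU).rangeRestrict) ?_
      rw [injective_iff_map_eq_one]
      intro h hh
      refine hinj ?_
      rw [map_one]
      refine MulEquiv.ext fun w => ?_
      show φ h w = w
      obtain ⟨e, he⟩ := hV w
      induction e generalizing w with
      | zero => rw [pow_zero, pow_one] at he; rw [he, map_one]
      | succ e ihe =>
        have h1 : φ h (w ^ q) = w ^ q := ihe (w ^ q) (by rw [← pow_mul, ← pow_succ', he])
        set δ := w⁻¹ * φ h w with hδ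
        have hδU : δ ^ q = 1 := by rw [hδ, mul_pow, inv_pow, ← map_pow, h1, inv_mul_cancel]
        have hfix : φ h δ = δ := by
          have e : restrictAut φ U hU h = 1 := congrArg Subtype.val hh
          exact congrArg Subtype.val (DFunLike.congr_fun e (⟨δ, hδU⟩ : U))
        have hj : ∀ j : ℕ, φ (h ^ j) w = w * δ ^ j := by
          intro j
          induction j with
          | zero => simp
          | succ j ihj =>
            rw [pow_succ', map_mul, MulAut.mul_apply, ihj, map_mul, map_pow, hfix, pow_succ', ← mul_assoc]
            congr 1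
            rw [hδ, mul_inv_cancel_left]
        have h2 := hj (Nat.card H)
        rw [pow_card_eq_one', map_one, MulAut.one_apply, left_eq_mul] at h2
        have hδ1 : δ = 1 := by
          have hc : q.Coprime (Nat.card H) := hq.coprime_iff_not_dvd.2 hqH
          rw [← pow_one δ, ← hc.gcd_eq_one]
          exact pow_gcd_eq_one.2 ⟨hδU, h2⟩
        rwa [hδ, inv_mul_eq_one, eq_comm] at hδ1
    -- no invariant subgroups
    have hirr : ∀ U : Subgroup V, (∀ h, ∀ w ∈ U, φ h w ∈ U) → U = ⊥ ∨ U = ⊤ := by
      intro U hU
      by_contra hc
      push Not at hc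
      refine hns ?_
      obtain ⟨U', hU', hinf, hsup⟩ := AbelianCoprime.exists_invariant_complement (p := q) hexp
        ((hq.coprime_iff_not_dvd.2 hqH).symm) φ U hU
      have hU't : U' ≠ ⊤ := fun h => hc.1 (by rw [← hinf, h, top_inf_eq])
      haveI := hsub U hc.2 hU
      haveI := hsub U' hU't hU'
      haveI : Group.IsSolvable ((restrictAut φ U hU).range × (restrictAut φ U' hU').range) :=
        solvable_of_ker_le_range (MonoidHom.inl _ _) (MonoidHom.snd _ _)
          fun x hx => ⟨x.1, Prod.ext rfl (MonoidHom.mem_ker.1 hx).symm⟩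
      refine solvable_of_solvable_injective
        (f := (restrictAut φ U hU).rangeRestrict.prod (restrictAut φ U' hU').rangeRestrict) ?_
      rw [injective_iff_map_eq_one]
      intro h hh
      refine hinj ?_
      rw [map_one]
      refine MulEquiv.ext fun w => ?_
      show φ h w = w
      obtain ⟨a, ha, b, hb, rfl⟩ := mem_sup.1 (hsup ▸ mem_top w : w ∈ U' ⊔ U)
      have h1 := congrArg Prod.fst hh
      have h2 := congrArg Prod.snd hh
      have e1 : restrictAut φ U hU h = 1 := congrArg Subtype.val h1
      have e2 : restrictAut φ U' hU' h = 1 := congrArg Subtype.val h2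
      rw [map_mul, show φ h a = a from congrArg Subtype.val (DFunLike.congr_fun e2 (⟨a, ha⟩ : U')),
        show φ h b = b from congrArg Subtype.val (DFunLike.congr_fun e1 (⟨b, hb⟩ : U))]
    -- the additive picture
    let ρ : H →* AddMonoid.End (Additive V) :=
      { toFun := fun h => (φ h).toMonoidHom.toAdditive
        map_one' := by rw [map_one]; rfl
        map_mul' := fun a b => by rw [map_mul]; rfl }
    have hρ : ∀ h (w : V), ρ h (Additive.ofMul w) = Additive.ofMul (φ h w) := fun h w => rfl
    obtain ⟨P⟩ : Nonempty (Sylow p H) := inferInstance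
    have hPorb : ∀ (h : H) (w : V), ∃ b : ↥(P : Subgroup H), φ (b : H) w = φ h w := by
      intro h w
      obtain ⟨a, ha⟩ := horb w
      have hcop : (fixer φ w).index.Coprime (P : Subgroup H).index := by
        rw [ha]; exact (hp.coprime_iff_not_dvd.2 P.not_dvd_index).pow_left a
      obtain ⟨b, hb, hbh⟩ := ClassSize.exists_mem_mul_of_index_coprime (fixer φ w) (P : Subgroup H) hcop h
      refine ⟨⟨b, hb⟩, ?_⟩
      rw [mem_fixer] at hbh
      conv_lhs => rw [← hbh]
      show φ b (φ (b⁻¹ * h) w) = _
      rw [← MulAut.mul_apply, ← map_mul, mul_inv_cancel_left]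
    let D : OrbitCase p q H (Additive V) :=
      { ρ := ρ
        inj := fun a b hab => hinj (MulEquiv.ext fun w => DFunLike.congr_fun hab (Additive.ofMul w))
        exp := fun w => by
          show Additive.ofMul ((Additive.toMul w) ^ q) = 0
          rw [hexp]; rfl
        ndvd := hqH
        perf := hperf
        P := P
        orb := fun h w => by
          obtain ⟨b, hb⟩ := hPorb h w.toMul
          exact ⟨b, congrArg Additive.ofMul hb⟩
        irr := fun U hU => by
          rcases hirr U.toSubgroup' (fun h w hw => by
            obtain ⟨b, hb⟩ := hPorb h w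
            rw [← hb]
            exact hU b (Additive.ofMul w) hw) with h | h
          · exact Or.inl (AddSubgroup.toSubgroup'.injective (h.trans (OrderIso.map_bot _).symm))
          · exact Or.inr (AddSubgroup.toSubgroup'.injective (h.trans (OrderIso.map_top _).symm)) }
    haveI : Nontrivial (Additive V) := by
      rw [← not_subsingleton_iff_nontrivial]
      intro hs
      obtain ⟨h, hh⟩ := exists_ne (1 : H)
      exact hh (D.eq_one_of_rho_eq fun w => Subsingleton.elim _ _)
    by_cases hcyc : IsCyclic (P : Subgroup H)
    · obtain ⟨g₀, hg₀⟩ := hcyc.exists_generator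
      exact D.false_of_cyclic g₀ hg₀
    rcases eq_or_ne p 2 with rfl | hp2
    · exact D.false_of_two hcyc
    · have htop : ¬ IsCyclic (⊤ : Subgroup ↥(P : Subgroup H)) := fun h =>
        hcyc (Subgroup.topEquiv.isCyclic.1 h)
      obtain ⟨z, w, hzc, hz1, hzp, -, hwp, -, hwz, hn⟩ :=
        PGroupNormalSq.exists_normal_sq hp2 P.isPGroup' (⊤ : Subgroup ↥(P : Subgroup H)) htop
      exact D.false_of_pair z w hzc hzp hz1 hwp hwz fun b =>
        hn.conj_mem w (subset_closure (Set.mem_insert_of_mem _ rfl)) b

end Cfsg.Agent.Lib.BaerClass
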